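import Groth.Agent.Lib.MultSmooth.Main
import Groth.Prelude.Def_Red2

/-!
# The centralizer of a homomorphism from a group of multiplicative type
-/

set_option autoImplicit false
universe u

open CategoryTheory MonoidalCategory CartesianMonoidalCategory MonObj GrpObj AlgebraicGeometry

namespace Groth.Agent.Lib.MultSmooth

set_option linter.style.haveILetI false

variable {S : Scheme.{u}} {H G : Over S} [GrpObj H] [GrpObj G]

theorem conj_eq_iff {K : Type*} [Group K] (a b : K) : a * b * a⁻¹ = b ↔ a * b = b * a := by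
  rw [mul_inv_eq_iff_eq_mul]

/-- **The centralizer is a smooth closed subgroup scheme.** -/
theorem exists_centralizer_smooth (hH : SGA3x.IsMultTypeFT H) [Smooth G.hom] [IsAffineHom G.hom]
    (u : H ⟶ G) [IsMonHom u] :
    ∃ (Z : Over S) (_ : GrpObj Z) (j : Z ⟶ G),
      Red.IsCentralizerOf u j ∧ IsClosedImmersion j.left ∧ Smooth Z.hom := by
  obtain ⟨C, c, hc, hs, hC⟩ := exists_transporter_smooth hH u u
  have hC' : ∀ (X : Over S) (g : X ⟶ G), (∃ z : X ⟶ C, z ≫ c = g) ↔
      ∀ (X' : Over S) (x : X' ⟶ X) (h : X' ⟶ H), (x ≫ g) * (h ≫ u) = (h ≫ u) * (x ≫ g) := fun X g => by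
    simp only [hC X g, conj_eq_iff]
  haveI : Mono c := (Over.forget S).mono_of_mono_map (show Mono c.left from inferInstance)
  obtain ⟨M, hM⟩ := FreeRes.exists_grpObj_of_mono c
    (fun T => (hC' _ 1).2 fun _ _ _ => by rw [MonObj.comp_one, _root_.one_mul, _root_.mul_one])
    (fun a b => (hC' _ _).2 fun X' x h => by
      have ha : Commute (x ≫ a ≫ c) (h ≫ u) := (hC' _ _).1 ⟨a, rfl⟩ X' x h
      have hb : Commute (x ≫ b ≫ c) (h ≫ u) := (hC' _ _).1 ⟨b, rfl⟩ X' x h
      rw [MonObj.comp_mul]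
      exact ha.mul_left hb)
    (fun a => (hC' _ _).2 fun X' x h => by
      have ha : Commute (x ≫ a ≫ c) (h ≫ u) := (hC' _ _).1 ⟨a, rfl⟩ X' x h
      rw [GrpObj.comp_inv]
      exact ha.inv_left)
  exact ⟨C, M, c, ⟨hM, inferInstance, hC'⟩, hc, hs⟩

end Groth.Agent.Lib.MultSmooth
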