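import Groth.Agent.Lib.MultSmooth.SubgroupSmooth
import Groth.Agent.Lib.FreeRes.SubGrp

/-!
# The normaliser of a subgroup of multiplicative type
-/

set_option autoImplicit false
universe u

open CategoryTheory MonoidalCategory CartesianMonoidalCategory MonObj GrpObj AlgebraicGeometry

namespace Groth.Agent.Lib.MultSmooth

set_option linter.style.haveILetI false

variable {S : Scheme.{u}} {H₁ H₂ G : Over S} [GrpObj G]

theorem fwd_inv_iff (i₁ : H₁ ⟶ G) (i₂ : H₂ ⟶ G) {X : Over S} (g : X ⟶ G) :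
    Fwd i₂ i₁ g⁻¹ ↔ ∀ (X' : Over S) (x : X' ⟶ X) (h₂ : X' ⟶ H₂),
      ∃ h₁ : X' ⟶ H₁, (x ≫ g)⁻¹ * (h₂ ≫ i₂) * (x ≫ g) = h₁ ≫ i₁ := by
  simp only [Fwd, GrpObj.comp_inv, _root_.inv_inv]

theorem fwd_mul {H : Over S} (i : H ⟶ G) {X : Over S} {g g' : X ⟶ G} (hg : Fwd i i g)
    (hg' : Fwd i i g') : Fwd i i (g * g') := fun X' x h => by
  obtain ⟨h₁, e₁⟩ := hg' X' x h
  obtain ⟨h₂, e₂⟩ := hg X' x h₁
  refine ⟨h₂, ?_⟩
  rw [← e₂, ← e₁, MonObj.comp_mul]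
  group

/-- **The normaliser is a smooth closed subgroup scheme.** -/
theorem exists_normalizer_smooth {H : Over S} [GrpObj H] (hH : SGA3x.IsMultTypeFT H) [Smooth G.hom]
    [IsAffineHom G.hom] (i : H ⟶ G) [IsMonHom i] [Mono i] :
    ∃ (N : Over S) (_ : GrpObj N) (j : N ⟶ G),
      Red.IsNormalizerOf i j ∧ IsClosedImmersion j.left ∧ Smooth N.hom := by
  obtain ⟨C, c, hc, hs, hC⟩ := exists_strict_smooth hH hH i i
  haveI : Mono c := (Over.forget S).mono_of_mono_map (show Mono c.left from inferInstance)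
  have h1 : ∀ T : Over S, Fwd i i (1 : T ⟶ G) := fun T X' x h => ⟨h, by simp [MonObj.comp_one]⟩
  obtain ⟨M, hM⟩ := FreeRes.exists_grpObj_of_mono c
    (fun T => (hC _ 1).2 ⟨h1 T, by rw [inv_one]; exact h1 T⟩)
    (fun a b => (hC _ _).2 ⟨fwd_mul i ((hC _ _).1 ⟨a, rfl⟩).1 ((hC _ _).1 ⟨b, rfl⟩).1, by
      rw [_root_.mul_inv_rev]
      exact fwd_mul i ((hC _ _).1 ⟨b, rfl⟩).2 ((hC _ _).1 ⟨a, rfl⟩).2⟩)
    (fun a => (hC _ _).2 ⟨((hC _ _).1 ⟨a, rfl⟩).2, by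
      rw [_root_.inv_inv]; exact ((hC _ _).1 ⟨a, rfl⟩).1⟩)
  refine ⟨C, M, c, ⟨hM, inferInstance, fun X g => (hC X g).trans ?_⟩, hc, hs⟩
  rw [fwd_inv_iff]
  exact ⟨fun hh X' x a => ⟨hh.1 X' x a, hh.2 X' x a⟩,
    fun hh => ⟨fun X' x a => (hh X' x a).1, fun X' x a => (hh X' x a).2⟩⟩

end Groth.Agent.Lib.MultSmooth
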