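import Groth.Agent.Lib.MultSmooth.FixSmooth
import Groth.Agent.Lib.MultSmooth.Normalizer
import Groth.Agent.Lib.MultSmooth.Centralizer

/-!
# Transporters, centralizers and normalizers in smooth separated groups (no affineness)
-/

set_option autoImplicit false
universe u

open CategoryTheory MonoidalCategory CartesianMonoidalCategory MonObj GrpObj AlgebraicGeometry
open CategoryTheory.Limits
open Groth.Agent.Lib.RedPts Groth.Agent.H87 Groth.Agent.H87.HomDS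

namespace Groth.Agent.Lib.MultSmooth

set_option linter.style.haveILetI false

variable {S : Scheme.{u}} {H G : Over S} [GrpObj H] [GrpObj G]

/-- **Lifting of a conjugating element**, in an affine chart of a smooth group. -/
theorem exists_lift_conj' [Smooth G.hom] (u₁ : H ⟶ G) [IsMonHom u₁]
    {A : CommRingCat.{u}} (J : Ideal A) (hJ : J ^ 2 = ⊥) (t : Spec A ⟶ S) {M : Type} [AddCommGroup M]
    (e : Grp.mk (Red.bc t H) ≅ Grp.mk (Red.DS (Spec A) M))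
    (w : Red.DS (Spec A) M ⟶ Red.bc t G) [IsMonHom w]
    (g₀ : Over.mk (Spec.map (CommRingCat.ofHom (Ideal.Quotient.mk J)) ≫ t) ⟶ G)
    (h₀ : Carries u₁ t e w (X := Over.mk (Spec.map (CommRingCat.ofHom (Ideal.Quotient.mk J)) ≫ t))
      (Spec.map (CommRingCat.ofHom (Ideal.Quotient.mk J))) rfl g₀)
    {V : Scheme.{u}} [IsAffine V] (j : V ⟶ pullback G.hom t) [IsOpenImmersion j]
    (hj : Set.range (pullback.lift g₀.left (Spec.map (CommRingCat.ofHom (Ideal.Quotient.mk J)))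
      (Over.w g₀)).base ⊆ Set.range j.base) :
    ∃ g : Over.mk t ⟶ G, Spec.map (CommRingCat.ofHom (Ideal.Quotient.mk J)) ≫ g.left = g₀.left ∧
      Carries u₁ t e w (X := Over.mk t) (𝟙 _) (Category.id_comp _) g := by
  let mk : A ⟶ CommRingCat.of (A ⧸ J) := CommRingCat.ofHom (Ideal.Quotient.mk J)
  let G' := Red.bc t G
  let T₀ := HomDS.test (𝟙 (Spec A)) mk
  let v₀ : Red.DS (Spec A) M ⟶ G' := e.inv.hom.hom ≫ (Over.pullback t).map u₁
  haveI : IsMonHom v₀ := by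
    have : IsMonHom e.inv.hom.hom := e.inv.hom.isMonHom_hom
    exact inferInstanceAs (IsMonHom (e.inv.hom.hom ≫ (Over.pullback t).map u₁))
  let act : Red.DS (Spec A) M ⊗ G' ⟶ G' :=
    (CartesianMonoidalCategory.fst _ _ ≫ w) * CartesianMonoidalCategory.snd _ _ *
      (CartesianMonoidalCategory.fst _ _ ≫ v₀)⁻¹
  have hact : ∀ {Y : Over (Spec A)} (h : Y ⟶ Red.DS (Spec A) M) (z : Y ⟶ G'),
      lift h z ≫ act = (h ≫ w) * z * (h ≫ v₀)⁻¹ := fun h z => by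
    simp only [act, MonObj.comp_mul, GrpObj.comp_inv, ← Category.assoc]
    erw [lift_fst, lift_snd]
  let x₀S : (Over.map t).obj T₀ ⟶ G := Over.homMk g₀.left (by
    show g₀.left ≫ G.hom = (Spec.map mk ≫ 𝟙 _) ≫ t
    rw [Category.comp_id]
    exact Over.w g₀)
  let x₀ : T₀ ⟶ G' := BC.up t x₀S
  have hl : x₀.left = pullback.lift g₀.left (Spec.map mk) (Over.w g₀) := by
    apply pullback.hom_ext
    · rw [pullback.lift_fst]
      exact congrArg CommaMorphism.left (BC.down_up (f := t) x₀S)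
    · rw [pullback.lift_snd]
      exact (Over.w x₀).trans (Category.comp_id _)
  haveI : Smooth G'.hom := MorphismProperty.pullback_snd (P := @Smooth) _ _ inferInstance
  have hdown : ∀ {Y : Over (Spec A)} (y : Y ⟶ Red.DS (Spec A) M),
      BC.down t (y ≫ v₀) = BC.down t (y ≫ e.inv.hom.hom) ≫ u₁ := fun y => by
    rw [← BC.down_map, Category.assoc]
  obtain ⟨xb, hxb, hfix⟩ := exists_fixed_lift_smooth J hJ (X := G') j act
    (fun Y h h' z => by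
      rw [hact, hact, hact, MonObj.mul_comp, MonObj.mul_comp]
      group) x₀ (by rw [hl]; exact hj)
    (fun Y q h => by
      rw [hact]
      apply BC.down_injective
      rw [BC.down_mul, BC.down_mul, BC.down_inv, BC.down_comp q, BC.down_up, hdown]
      let s : (Over.map t).obj Y ⟶ Over.mk (Spec.map mk ≫ t) := Over.homMk q.left (by
        show q.left ≫ Spec.map mk ≫ t = Y.hom ≫ t
        rw [← Over.w q]; simp [T₀, mk])
      have hs : s ≫ g₀ = (Over.map t).map q ≫ x₀S := Over.OverMorphism.ext rfl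
      have := h₀ Y s (by rw [← Over.w q]; simp [s, T₀, mk]) h
      rw [← hs, ← this]
      group)
  let b : Over.mk t ⟶ (Over.map t).obj (HomDS.test (𝟙 (Spec A)) (𝟙 A)) :=
    Over.homMk (𝟙 _) (by simp)
  refine ⟨b ≫ BC.down t xb, ?_, fun Y s hs y => ?_⟩
  · have h1 := congrArg (BC.down t) hxb
    rw [BC.down_comp, BC.down_up] at h1
    show Spec.map mk ≫ 𝟙 _ ≫ (BC.down t xb).left = g₀.left
    rw [Category.id_comp]
    exact congrArg CommaMorphism.left h1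
  · let p : Y ⟶ HomDS.test (𝟙 (Spec A)) (𝟙 A) := Over.homMk (U := Y) Y.hom (by simp)
    have hsb : s ≫ b = (Over.map t).map p := by
      apply Over.OverMorphism.ext
      show s.left ≫ 𝟙 _ = Y.hom
      exact hs
    have h := congrArg (BC.down t) (hfix Y p y)
    rw [hact, BC.down_mul, BC.down_mul, BC.down_inv, hdown] at h
    rw [reassoc_of% hsb, ← BC.down_comp, mul_inv_eq_iff_eq_mul]
    exact eq_mul_inv_iff_mul_eq.mp h.symm

section Fwd

variable {H₁ H₂ : Over S} [GrpObj H₁] [GrpObj H₂] (i₁ : H₁ ⟶ G) (i₂ : H₂ ⟶ G)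

variable {A : CommRingCat.{u}} (J : Ideal A) (t : Spec A ⟶ S)
  {M M' : Type} [AddCommGroup M] [AddCommGroup M']
  (e₁ : Grp.mk (Red.bc t H₁) ≅ Grp.mk (Red.DS (Spec A) M))
  (e₂ : Grp.mk (Red.bc t H₂) ≅ Grp.mk (Red.DS (Spec A) M'))

theorem exists_lift_fwd' (hJ : J ^ 2 = ⊥) [Smooth G.hom] [IsMonHom i₁] [IsMonHom i₂]
    [Mono i₂] (g₀ : Over.mk (Spec.map (CommRingCat.ofHom (Ideal.Quotient.mk J)) ≫ t) ⟶ G)
    (h₀ : Fwd i₁ i₂ g₀) {V : Scheme.{u}} [IsAffine V] (j : V ⟶ pullback G.hom t) [IsOpenImmersion j]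
    (hj : Set.range (pullback.lift g₀.left (Spec.map (CommRingCat.ofHom (Ideal.Quotient.mk J)))
      (Over.w g₀)).base ⊆ Set.range j.base) :
    ∃ (g : Over.mk t ⟶ G) (ψ : Red.DS (Spec A) M ⟶ Red.DS (Spec A) M'), IsMonHom ψ ∧
      Spec.map (CommRingCat.ofHom (Ideal.Quotient.mk J)) ≫ g.left = g₀.left ∧
      Carries i₁ t e₁ (ψ ≫ e₂.inv.hom.hom ≫ (Over.pullback t).map i₂) (X := Over.mk t) (𝟙 _)
        (Category.id_comp _) g ∧
      (∀ (Y : Over (Spec A))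
        (s : (Over.map t).obj Y ⟶ Over.mk (Spec.map (CommRingCat.ofHom (Ideal.Quotient.mk J)) ≫ t)),
        s.left ≫ Spec.map (CommRingCat.ofHom (Ideal.Quotient.mk J)) = Y.hom →
        ∀ (y : Y ⟶ Red.DS (Spec A) M),
          (s ≫ g₀) * tr t e₁ i₁ y * (s ≫ g₀)⁻¹ = tr t e₂ i₂ (y ≫ ψ)) ∧ Fwd i₁ i₂ g := by
  obtain ⟨ψ, hψ, hc⟩ := exists_hom_of_fwd i₁ i₂ J t e₁ e₂ hJ g₀ h₀
  haveI := hψ
  haveI := isMonHom_transport t e₂ i₂
  haveI : IsMonHom (ψ ≫ e₂.inv.hom.hom ≫ (Over.pullback t).map i₂) := inferInstance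
  obtain ⟨g, hg, hcar⟩ := exists_lift_conj' i₁ J hJ t e₁ (ψ ≫ e₂.inv.hom.hom ≫ (Over.pullback t).map i₂) g₀
    (fun Y s hs y => by
      have := hc Y s hs y
      rwa [tr_eq_down t e₂ i₂, Category.assoc, tr] at this) j hj
  refine ⟨g, ψ, hψ, hg, hcar, hc, fun X' x h => ?_⟩
  obtain ⟨Y, a, b, hba, hy⟩ := fwd_of_carries i₁ i₂ t e₁ e₂ g ψ hcar X' x
  have h1 : e₁.hom.hom.hom ≫ e₁.inv.hom.hom = 𝟙 _ := congr(($(e₁.hom_inv_id)).hom.hom)
  have h2 := hy (BC.up t (a ≫ h) ≫ e₁.hom.hom.hom)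
  rw [tr, tr, Category.assoc (BC.up t (a ≫ h)) e₁.hom.hom.hom e₁.inv.hom.hom, h1, Category.comp_id,
    BC.down_up, ← Category.assoc b (a ≫ h), ← Category.assoc b a h, hba, Category.id_comp] at h2
  exact ⟨_, h2.trans (Category.assoc _ _ _).symm⟩

/-- A carrying element whose character map has a section transports backwards. -/
theorem fwd_inv_of_carries [IsMonHom i₁] [IsMonHom i₂] (g : Over.mk t ⟶ G)
    (ψ : Red.DS (Spec A) M ⟶ Red.DS (Spec A) M') (χ : Red.DS (Spec A) M' ⟶ Red.DS (Spec A) M)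
    (hid : χ ≫ ψ = 𝟙 _)
    (hcar : Carries i₁ t e₁ (ψ ≫ e₂.inv.hom.hom ≫ (Over.pullback t).map i₂) (X := Over.mk t) (𝟙 _)
      (Category.id_comp _) g) : Fwd i₂ i₁ g⁻¹ := fun X' x h => by
  obtain ⟨Y, a, b, hba, hy⟩ := fwd_of_carries i₁ i₂ t e₁ e₂ g ψ hcar X' x
  have h1 : e₂.hom.hom.hom ≫ e₂.inv.hom.hom = 𝟙 _ := congr(($(e₂.hom_inv_id)).hom.hom)
  have h2 := hy ((BC.up t (a ≫ h) ≫ e₂.hom.hom.hom) ≫ χ)
  rw [Category.assoc _ χ ψ, hid, Category.comp_id] at h2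
  rw [tr, tr, Category.assoc (BC.up t (a ≫ h)) e₂.hom.hom.hom e₂.inv.hom.hom, h1, Category.comp_id,
    BC.down_up, ← Category.assoc b (a ≫ h), ← Category.assoc b a h, hba, Category.id_comp,
    ← Category.assoc b] at h2
  refine ⟨b ≫ BC.down t (((BC.up t (a ≫ h) ≫ e₂.hom.hom.hom) ≫ χ) ≫ e₁.inv.hom.hom), ?_⟩
  rw [GrpObj.comp_inv, _root_.inv_inv, ← h2]
  group

end Fwd

/-- **Transporter of two homomorphisms.** -/
theorem exists_transporter_smooth' (hH : SGA3x.IsMultTypeFT H) [Smooth G.hom] [IsSeparated G.hom]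
    (u₁ u₂ : H ⟶ G) [IsMonHom u₁] [IsMonHom u₂] :
    ∃ (C : Over S) (c : C ⟶ G), IsClosedImmersion c.left ∧ Smooth C.hom ∧
      ∀ (X : Over S) (g : X ⟶ G), (∃ z : X ⟶ C, z ≫ c = g) ↔
        ∀ (X' : Over S) (x : X' ⟶ X) (h : X' ⟶ H), (x ≫ g) * (h ≫ u₁) * (x ≫ g)⁻¹ = h ≫ u₂ := by
  haveI := MT.isAffineHom hH
  haveI : IsClosedImmersion η[G].left := GrpSch.isClosedImmersion_η G
  obtain ⟨C, c, hc, hC, hfp⟩ := FreeRes.exists_closed_factor (P := G) (X := H)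
    (FreeRes.isEssentiallyFree_of_isMultTypeFT hH)
    (fst G H * (snd G H ≫ u₁) * (fst G H)⁻¹ * (snd G H ≫ u₂)⁻¹) η[G]
  have hiff : ∀ (X : Over S) (g : X ⟶ G), (∃ z : X ⟶ C, z ≫ c = g) ↔
      ∀ (X' : Over S) (x : X' ⟶ X) (h : X' ⟶ H), (x ≫ g) * (h ≫ u₁) * (x ≫ g)⁻¹ = h ≫ u₂ := fun X g => by
    rw [hC g, FreeRes.forall_pair_factor_iff]
    refine forall_congr' fun X' => forall_congr' fun x => forall_congr' fun h => ?_
    rw [← mul_inv_eq_one (b := h ≫ u₂), ← factor_η_iff]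
    simp only [MonObj.comp_mul, GrpObj.comp_inv, lift_fst, lift_snd_assoc]
    exact exists_congr fun l => eq_comm
  haveI : LocallyOfFinitePresentation η[G].left :=
    AlgSpMor.Cancel.locallyOfFinitePresentation_of_comp (g := G.hom)
      (by rw [Over.w η[G]]; exact inferInstanceAs (LocallyOfFinitePresentation (𝟙 S))) inferInstance
  haveI := hfp inferInstance inferInstance
  haveI := hc
  haveI : LocallyOfFinitePresentation (c.left ≫ G.hom) := inferInstance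
  refine ⟨C, c, hc, ?_, hiff⟩
  obtain ⟨S', p, hp, hps, hcov, hloc⟩ := hH
  rw [← Over.w c]
  refine smooth_of_closed_locally c.left G.hom p hcov fun s' => ?_
  obtain ⟨U, hU, M, hM, -, ⟨e₀⟩⟩ := hloc s'
  refine ⟨U, hU, fun A J hJ t₀ ht₀ c₀ hc₀ V _ j _ hj => ?_⟩
  let t : Spec A ⟶ S := t₀ ≫ p
  let r : Spec A ⟶ (U : Scheme.{u}) := IsOpenImmersion.lift U.ι t₀ (by simpa using ht₀)
  have ht : t = r ≫ U.ι ≫ p := by simp [t, r]
  let e := Tori.BaseChange.bcCongr ht H ≪≫ Charts.resChart e₀ r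
  haveI := isMonHom_transport t e u₂
  let g₀ : Over.mk (Spec.map (CommRingCat.ofHom (Ideal.Quotient.mk J)) ≫ t) ⟶ G :=
    (Over.homMk c₀ (by show c₀ ≫ C.hom = _; rw [← Over.w c, ← Category.assoc]; exact hc₀) :
      Over.mk (Spec.map (CommRingCat.ofHom (Ideal.Quotient.mk J)) ≫ t) ⟶ C) ≫ c
  obtain ⟨g, hg, hcar⟩ := exists_lift_conj' u₁ J hJ t e (e.inv.hom.hom ≫ (Over.pullback t).map u₂) g₀
    ((carries_iff t e u₁ u₂ _ rfl g₀).2 ((hiff _ g₀).1 ⟨_, rfl⟩)) j hj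
  obtain ⟨z, hz⟩ := (hiff _ g).2 ((carries_iff t e u₁ u₂ _ (Category.id_comp _) g).1 hcar)
  refine ⟨z.left, ?_, ?_⟩
  · rw [← Over.comp_left, hz]
    exact Over.w g
  · rw [← cancel_mono c.left, Category.assoc, ← Over.comp_left, hz, hg]
    rfl

/-- **The strict transporter is smooth.** -/
theorem exists_strict_smooth' {H₁ H₂ : Over S} [GrpObj H₁] [GrpObj H₂] (hH₁ : SGA3x.IsMultTypeFT H₁) (hH₂ : SGA3x.IsMultTypeFT H₂) [Smooth G.hom]
    (i₁ : H₁ ⟶ G) [IsMonHom i₁] [IsClosedImmersion i₁.left] (i₂ : H₂ ⟶ G) [IsMonHom i₂]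
    [IsClosedImmersion i₂.left] :
    ∃ (C : Over S) (c : C ⟶ G), IsClosedImmersion c.left ∧ Smooth C.hom ∧
      ∀ (X : Over S) (g : X ⟶ G), (∃ z : X ⟶ C, z ≫ c = g) ↔ Fwd i₁ i₂ g ∧ Fwd i₂ i₁ g⁻¹ := by
  haveI : Mono i₁ := (Over.forget S).mono_of_mono_map (show Mono i₁.left from inferInstance)
  haveI : Mono i₂ := (Over.forget S).mono_of_mono_map (show Mono i₂.left from inferInstance)
  haveI := MT.isAffineHom hH₁
  haveI := MT.isAffineHom hH₂
  obtain ⟨C₁, c₁, hc₁, hC₁', hfp₁'⟩ := FreeRes.exists_transporter i₂ i₁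
    (FreeRes.isEssentiallyFree_of_isMultTypeFT hH₁)
  have hfp₁ := hfp₁' inferInstance (lfp_of_mono_multType hH₂ i₂)
  have hC₁ : ∀ {X : Over S} (g : X ⟶ G), (∃ z : X ⟶ C₁, z ≫ c₁ = g) ↔ Fwd i₁ i₂ g := fun g => hC₁' g
  obtain ⟨C₂, c₂, hc₂, hC₂', hfp₂'⟩ := FreeRes.exists_transporter i₁ i₂
    (FreeRes.isEssentiallyFree_of_isMultTypeFT hH₂)
  have hfp₂ := hfp₂' inferInstance (lfp_of_mono_multType hH₁ i₁)
  have hC₂ : ∀ {X : Over S} (g : X ⟶ G), (∃ z : X ⟶ C₂, z ≫ c₂ = g) ↔ Fwd i₂ i₁ g := fun g => hC₂' g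
  let ν : G ⟶ G := (𝟙 G)⁻¹
  have hν : ∀ {X : Over S} (g : X ⟶ G), g ≫ ν = g⁻¹ := fun g => by
    simp [ν, GrpObj.comp_inv]
  haveI : IsIso ν := ⟨ν, by rw [hν]; exact _root_.inv_inv _, by rw [hν]; exact _root_.inv_inv _⟩
  haveI : IsIso ν.left := inferInstanceAs (IsIso ((Over.forget S).map ν))
  let c₂' : C₂ ⟶ G := c₂ ≫ ν
  have hC₂' : ∀ {X : Over S} (g : X ⟶ G), (∃ z : X ⟶ C₂, z ≫ c₂' = g) ↔ Fwd i₂ i₁ g⁻¹ := fun {X} g => by
    rw [← hC₂ g⁻¹]
    refine exists_congr fun z => ?_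
    simp only [c₂', hν, GrpObj.comp_inv]
    exact inv_eq_iff_eq_inv
  haveI := hc₁
  haveI := hc₂
  haveI := hfp₁
  haveI := hfp₂
  haveI : IsClosedImmersion c₂'.left := inferInstanceAs (IsClosedImmersion (c₂.left ≫ ν.left))
  haveI : LocallyOfFinitePresentation c₂'.left :=
    inferInstanceAs (LocallyOfFinitePresentation (c₂.left ≫ ν.left))
  let C : Over S := Over.mk ((pullback.fst c₁.left c₂'.left ≫ c₁.left) ≫ G.hom)
  let c : C ⟶ G := Over.homMk (pullback.fst c₁.left c₂'.left ≫ c₁.left)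
  haveI : IsClosedImmersion c.left :=
    inferInstanceAs (IsClosedImmersion (pullback.fst c₁.left c₂'.left ≫ c₁.left))
  haveI : LocallyOfFinitePresentation c.left :=
    inferInstanceAs (LocallyOfFinitePresentation (pullback.fst c₁.left c₂'.left ≫ c₁.left))
  have hC : ∀ {X : Over S} (g : X ⟶ G), (∃ z, z ≫ c = g) ↔ Fwd i₁ i₂ g ∧ Fwd i₂ i₁ g⁻¹ := fun {X} g => by
    rw [← hC₁ g, ← hC₂' g]
    constructor
    · rintro ⟨z, rfl⟩
      refine ⟨⟨z ≫ Over.homMk (pullback.fst c₁.left c₂'.left) ?_, ?_⟩,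
        ⟨z ≫ Over.homMk (pullback.snd c₁.left c₂'.left) ?_, ?_⟩⟩
      · show _ ≫ C₁.hom = (_ ≫ c₁.left) ≫ G.hom
        rw [Category.assoc, Over.w c₁]
      · rw [Category.assoc]; congr 1
      · show _ ≫ C₂.hom = (_ ≫ c₁.left) ≫ G.hom
        rw [pullback.condition, Category.assoc, Over.w c₂']
      · rw [Category.assoc]; congr 1
        exact Over.OverMorphism.ext pullback.condition.symm
    · rintro ⟨⟨z₁, h₁⟩, ⟨z₂, h₂⟩⟩
      have e : z₁.left ≫ c₁.left = z₂.left ≫ c₂'.left := by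
        rw [← Over.comp_left, ← Over.comp_left, h₁, h₂]
      have e1 : pullback.lift z₁.left z₂.left e ≫ c.left = g.left := by
        show pullback.lift z₁.left z₂.left e ≫ pullback.fst c₁.left c₂'.left ≫ c₁.left = _
        rw [pullback.lift_fst_assoc, ← Over.comp_left, h₁]
      exact ⟨Over.homMk (pullback.lift z₁.left z₂.left e)
        (by rw [← Over.w c, reassoc_of% e1, Over.w g]), Over.OverMorphism.ext e1⟩
  haveI : LocallyOfFinitePresentation (c.left ≫ G.hom) := inferInstance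
  refine ⟨C, c, inferInstance, ?_, fun X g => hC g⟩
  obtain ⟨S', p, hp, hps, hcov, hloc⟩ := Charts.exists_common_charts hH₁ hH₂
  rw [← Over.w c]
  refine smooth_of_closed_locally c.left G.hom p hcov fun s' => ?_
  obtain ⟨U, hU, M, M', iM, iM', -, -, ⟨f₁⟩, ⟨f₂⟩⟩ := hloc s'
  refine ⟨U, hU, fun A J hJ t₀ ht₀ c₀ hc₀ V _ j _ hj => ?_⟩
  let t := t₀ ≫ p
  let r : Spec A ⟶ (U : Scheme.{u}) := IsOpenImmersion.lift U.ι t₀ (by simpa using ht₀)
  have ht : t = r ≫ U.ι ≫ p := by simp [t, r]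
  let e₁ := Tori.BaseChange.bcCongr ht H₁ ≪≫ Charts.resChart f₁ r
  let e₂ := Tori.BaseChange.bcCongr ht H₂ ≪≫ Charts.resChart f₂ r
  let g₀ : Over.mk (Spec.map (CommRingCat.ofHom (Ideal.Quotient.mk J)) ≫ t) ⟶ G :=
    (Over.homMk c₀ (by show c₀ ≫ C.hom = _; rw [← Over.w c, ← Category.assoc]; exact hc₀) : Over.mk (Spec.map (CommRingCat.ofHom (Ideal.Quotient.mk J)) ≫ t) ⟶ C) ≫ c
  obtain ⟨h₀, h₀'⟩ := (hC g₀).1 ⟨_, rfl⟩
  obtain ⟨g, ψ, hψm, hg, hcar, hψ, hfwd⟩ := exists_lift_fwd' i₁ i₂ J t e₁ e₂ hJ g₀ h₀ j hj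
  obtain ⟨χ, hχm, hχ⟩ := exists_hom_of_fwd i₂ i₁ J t e₂ e₁ hJ g₀⁻¹ h₀'
  haveI := hψm
  haveI := hχm
  have inj : ∀ {Y : Over (Spec A)} {z z' : Y ⟶ Red.DS (Spec A) M'},
      tr t e₂ i₂ z = tr t e₂ i₂ z' → z = z' := fun {Y z z'} h => by
    haveI : IsIso e₂.inv.hom.hom := Tori.BaseChange.isIso_hom e₂.symm
    exact (cancel_mono _).1 (BC.down_injective ((cancel_mono i₂).1 h))
  have hid : χ ≫ ψ = 𝟙 _ := hom_eq_of_eq J hJ _ _ fun Y q y => inj (by
    let s : (Over.map t).obj Y ⟶ Over.mk (Spec.map (CommRingCat.ofHom (Ideal.Quotient.mk J)) ≫ t) :=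
      Over.homMk q.left (by
        show q.left ≫ Spec.map _ ≫ t = Y.hom ≫ t
        rw [← Over.w q]; simp)
    have hs : s.left ≫ Spec.map (CommRingCat.ofHom (Ideal.Quotient.mk J)) = Y.hom := by
      rw [← Over.w q]; simp [s]
    rw [Category.comp_id, ← Category.assoc, ← hψ Y s hs, ← hχ Y s hs, GrpObj.comp_inv]
    group)
  have hback : Fwd i₂ i₁ g⁻¹ := fwd_inv_of_carries i₁ i₂ t e₁ e₂ g ψ χ hid hcar
  obtain ⟨z, hz⟩ := (hC g).2 ⟨hfwd, hback⟩
  refine ⟨z.left, ?_, ?_⟩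
  · rw [← Over.comp_left, hz]
    exact Over.w g
  · rw [← cancel_mono c.left, Category.assoc, ← Over.comp_left, hz, hg]
    rfl

/-- **The centralizer is a smooth closed subgroup scheme.** -/
theorem exists_centralizer_smooth' (hH : SGA3x.IsMultTypeFT H) [Smooth G.hom] [IsSeparated G.hom]
    (u : H ⟶ G) [IsMonHom u] :
    ∃ (Z : Over S) (_ : GrpObj Z) (j : Z ⟶ G),
      Red.IsCentralizerOf u j ∧ IsClosedImmersion j.left ∧ Smooth Z.hom := by
  obtain ⟨C, c, hc, hs, hC⟩ := exists_transporter_smooth' hH u u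
  have hC' : ∀ (X : Over S) (g : X ⟶ G), (∃ z : X ⟶ C, z ≫ c = g) ↔
      ∀ (X' : Over S) (x : X' ⟶ X) (h : X' ⟶ H), (x ≫ g) * (h ≫ u) = (h ≫ u) * (x ≫ g) := fun X g => by
    simp only [hC X g, conj_eq_iff]
  haveI : Mono c := (Over.forget S).mono_of_mono_map (show Mono c.left from inferInstance)
  obtain ⟨M, hM⟩ := FreeRes.exists_grpObj_of_mono c
    (fun T => (hC' _ 1).2 fun _ _ _ => by rw [MonObj.comp_one, _root_.one_mul, _root_.mul_one])
    (fun a b => (hC' _ _).2 fun X' x h => by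
      have ha : Commute (x ≫ a ≫ c) (h ≫ u) := (hC' _ _).1 ⟨a, rfl⟩ X' x h
      have hb : Commute (x ≫ b ≫ c) (h ≫ u) := (hC' _ _).1 ⟨b, rfl⟩ X' x h
      rw [MonObj.comp_mul]
      exact ha.mul_left hb)
    (fun a => (hC' _ _).2 fun X' x h => by
      have ha : Commute (x ≫ a ≫ c) (h ≫ u) := (hC' _ _).1 ⟨a, rfl⟩ X' x h
      rw [GrpObj.comp_inv]
      exact ha.inv_left)
  exact ⟨C, M, c, ⟨hM, inferInstance, hC'⟩, hc, hs⟩

/-- **The normaliser is a smooth closed subgroup scheme.** -/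
theorem exists_normalizer_smooth' (hH : SGA3x.IsMultTypeFT H) [Smooth G.hom]
    (i : H ⟶ G) [IsMonHom i] [IsClosedImmersion i.left] :
    ∃ (N : Over S) (_ : GrpObj N) (j : N ⟶ G),
      Red.IsNormalizerOf i j ∧ IsClosedImmersion j.left ∧ Smooth N.hom := by
  obtain ⟨C, c, hc, hs, hC⟩ := exists_strict_smooth' hH hH i i
  haveI : Mono c := (Over.forget S).mono_of_mono_map (show Mono c.left from inferInstance)
  have h1 : ∀ T : Over S, Fwd i i (1 : T ⟶ G) := fun T X' x h => ⟨h, by simp [MonObj.comp_one]⟩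
  obtain ⟨M, hM⟩ := FreeRes.exists_grpObj_of_mono c
    (fun T => (hC _ 1).2 ⟨h1 T, by rw [inv_one]; exact h1 T⟩)
    (fun a b => (hC _ _).2 ⟨fwd_mul i ((hC _ _).1 ⟨a, rfl⟩).1 ((hC _ _).1 ⟨b, rfl⟩).1, by
      rw [_root_.mul_inv_rev]
      exact fwd_mul i ((hC _ _).1 ⟨b, rfl⟩).2 ((hC _ _).1 ⟨a, rfl⟩).2⟩)
    (fun a => (hC _ _).2 ⟨((hC _ _).1 ⟨a, rfl⟩).2, by
      rw [_root_.inv_inv]; exact ((hC _ _).1 ⟨a, rfl⟩).1⟩)
  refine ⟨C, M, c, ⟨hM, inferInstance, fun X g => (hC X g).trans ?_⟩, hc, hs⟩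
  rw [fwd_inv_iff]
  exact ⟨fun hh X' x a => ⟨hh.1 X' x a, hh.2 X' x a⟩,
    fun hh => ⟨fun X' x a => (hh X' x a).1, fun X' x a => (hh X' x a).2⟩⟩

end Groth.Agent.Lib.MultSmooth
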