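import Groth.Agent.Lib.MultSmooth.Conj
import Mathlib.RingTheory.Ideal.Maximal

/-!
# A monomorphism of a diagonalisable group into an affine group is a closed immersion
-/

set_option autoImplicit false
universe u

open CategoryTheory MonoidalCategory CartesianMonoidalCategory MonObj GrpObj AlgebraicGeometry
open Groth.Agent.Lib.RedPts Groth.Agent.H87 Groth.Agent.H87.HomDS
open Groth.Agent.H87.Locus (toG)

namespace Groth.Agent.Lib.MultSmooth

set_option linter.style.haveILetI false

variable {A : CommRingCat.{u}} {M : Type} [AddCommGroup M]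

local notation "N" => Multiplicative M

/-- The universal point is an isomorphism onto `D(M)`. -/
theorem isIso_univPt : IsIso (univPt (𝟙 (Spec A)) M) := by
  obtain ⟨r, hr⟩ := exists_fac (𝟙 (Spec A)) M (Red.DS (Spec A) M).hom (Category.comp_id _)
    (𝟙 (Red.DS (Spec A) M))
  refine ⟨r, ?_, hr⟩
  apply Over.OverMorphism.ext
  let ψ : ring (A := A) M ⟶ ring (A := A) M := Spec.preimage (univPt (𝟙 (Spec A)) M ≫ r).left
  have hψ : Spec.map ψ = (univPt (𝟙 (Spec A)) M ≫ r).left := Spec.map_preimage _
  have h1 : ψ = 𝟙 _ := by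
    refine CommRingCat.hom_ext (MonoidAlgebra.ringHom_ext (fun a => ?_) fun m => ?_)
    · have hw := Over.w (univPt (𝟙 (Spec A)) M ≫ r)
      rw [← hψ] at hw
      simp only [test, Category.comp_id, ← Spec.map_comp, Over.mk_hom] at hw
      exact congr((CommRingCat.Hom.hom $(Spec.map_injective hw)) a)
    · apply toG_injective
      have h2 := congrArg (fun x => Gm.dsFn (univPt (𝟙 (Spec A)) M ≫ x) m.toAdd) hr
      simp only [Category.comp_id, ← Category.assoc] at h2
      rw [Gm.dsFn_comp, ← hψ] at h2
      simp only [univPt, Gm.dsFn_dsPt] at h2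
      erw [appTop_SpecMap_apply] at h2
      simp only [MonoidHom.coe_comp, Function.comp_apply] at h2
      erw [Iso.inv_hom_id_apply] at h2
      exact h2
  rw [← hψ, h1, Spec.map_id]
  rfl

/-- `A[N × N]` as the group algebra of `N` over `A[N]`. -/
noncomputable def curry : MonoidAlgebra A (N × N) →+* MonoidAlgebra (MonoidAlgebra A N) N :=
  MonoidAlgebra.liftNCRingHom
    ((MonoidAlgebra.singleOneRingHom : MonoidAlgebra A N →+* MonoidAlgebra (MonoidAlgebra A N) N).comp
      MonoidAlgebra.singleOneRingHom)
    (((MonoidAlgebra.singleOneRingHom : MonoidAlgebra A N →+* MonoidAlgebra (MonoidAlgebra A N) N).toMonoidHom.comp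
      (MonoidAlgebra.of A N)).coprod (MonoidAlgebra.of (MonoidAlgebra A N) N))
    (fun _ _ => Commute.all _ _)

theorem curry_single (p q : N) (a : A) :
    curry (M := M) (MonoidAlgebra.single (p, q) a) = MonoidAlgebra.single q (MonoidAlgebra.single p a) := by
  rw [curry, MonoidAlgebra.liftNCRingHom_single]
  simp [MonoidAlgebra.singleOneRingHom, MonoidAlgebra.single_mul_single]

open scoped Classical in
theorem curry_coeff_inl (x : MonoidAlgebra A N) (n : N) :
    (curry (M := M) (ev2 A N (MonoidHom.inl N N) x)).coeff n = if n = 1 then x else 0 := by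
  classical
  induction x using MonoidAlgebra.induction_linear with
  | zero => simp
  | add x y hx hy => simp only [map_add, MonoidAlgebra.coeff_add, Finsupp.add_apply, hx, hy]; split_ifs <;> simp
  | single m a =>
    rw [ev2_single, MonoidHom.inl_apply, curry_single, MonoidAlgebra.coeff_single, Finsupp.single_apply]
    simp [eq_comm]

theorem curry_coeff_inr (x : MonoidAlgebra A N) (n : N) :
    (curry (M := M) (ev2 A N (MonoidHom.inr N N) x)).coeff n = MonoidAlgebra.single 1 (x.coeff n) := by
  classical
  induction x using MonoidAlgebra.induction_linear with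
  | zero => simp
  | add x y hx hy => simp [hx, hy]
  | single m a =>
    rw [ev2_single, MonoidHom.inr_apply, curry_single, MonoidAlgebra.coeff_single, Finsupp.single_apply,
      MonoidAlgebra.coeff_single, Finsupp.single_apply]
    split_ifs <;> simp

theorem curry_coeff_diag (x : MonoidAlgebra A N) (n : N) :
    (curry (M := M) (ev2 A N (MonoidHom.prod (MonoidHom.id N) (MonoidHom.id N)) x)).coeff n =
      MonoidAlgebra.single n (x.coeff n) := by
  classical
  induction x using MonoidAlgebra.induction_linear with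
  | zero => simp
  | add x y hx hy => simp [hx, hy]
  | single m a =>
    rw [ev2_single]
    show (curry (M := M) (MonoidAlgebra.single (m, m) a)).coeff n = _
    rw [curry_single, MonoidAlgebra.coeff_single, Finsupp.single_apply,
      MonoidAlgebra.coeff_single, Finsupp.single_apply]
    split_ifs with h <;> simp [h]

variable {G : Over (Spec A)} [GrpObj G] [IsAffine G.left]

theorem co_inv_mul_aux {D D' : CommRingCat.{u}} {φ : A ⟶ D} {φ' : A ⟶ D'} (sub : D' ⟶ D)
    (x : test (𝟙 (Spec A)) φ ⟶ G) (h : φ' ≫ sub = φ) (hsub : Function.Injective sub.hom)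
    (hx : ∀ f, (co x).hom f ∈ sub.hom.range) : ∃ y : test (𝟙 (Spec A)) φ' ⟶ G, th sub h ≫ y = x := by
  choose g hg using hx
  let q : Γ(G.left, ⊤) ⟶ D' := CommRingCat.ofHom
    { toFun := g
      map_one' := hsub (by rw [hg, map_one, map_one])
      map_mul' := fun a b => hsub (by rw [hg, map_mul, map_mul, hg, hg])
      map_zero' := hsub (by rw [hg, map_zero, map_zero])
      map_add' := fun a b => hsub (by rw [hg, map_add, map_add, hg, hg]) }
  have hq : q ≫ sub = co x := CommRingCat.hom_ext (RingHom.ext hg)
  refine ⟨Over.homMk (Spec.map q ≫ G.left.isoSpec.inv) ?_, co_injective ?_⟩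
  · show _ = Spec.map φ' ≫ 𝟙 _
    let str : A ⟶ Γ(G.left, ⊤) := (Scheme.ΓSpecIso A).inv ≫ G.hom.appTop
    have hG : G.hom = G.left.isoSpec.hom ≫ Spec.map str := by
      simp [str, Spec.map_comp, Scheme.isoSpec_hom, ← Scheme.toSpecΓ_naturality_assoc]
    have hs : str ≫ co x = φ := by
      apply Spec.map_injective
      rw [Spec.map_comp]
      show (Spec.map (co x)) ≫ Spec.map str = _
      have := Over.w x
      rw [hG] at this
      simpa [co, test] using this
    have hs' : str ≫ q = φ' := by
      refine CommRingCat.hom_ext (RingHom.ext fun a => hsub ?_)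
      show (q ≫ sub).hom (str.hom a) = (φ' ≫ sub).hom a
      rw [hq, h]
      exact congr((CommRingCat.Hom.hom $hs) a)
    rw [Category.assoc, hG, Iso.inv_hom_id_assoc, ← Spec.map_comp, hs', Category.comp_id]
  · rw [co_comp]
    refine Eq.trans ?_ hq
    congr 1
    apply Spec.map_injective
    simp [co]

/-- **A monomorphism from `D(M)` to an affine group is a closed immersion.** -/
theorem isClosedImmersion_of_mono (u : Red.DS (Spec A) M ⟶ G) [IsMonHom u] [Mono u] :
    IsClosedImmersion u.left := by
  classical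
  let B : CommRingCat.{u} := ring (A := A) M
  let inc : A ⟶ B := CommRingCat.ofHom MonoidAlgebra.singleOneRingHom
  let x : test (𝟙 (Spec A)) inc ⟶ G := univPt (𝟙 (Spec A)) M ≫ u
  let R : Subring (MonoidAlgebra A N) := (co x).hom.range
  have hA : ∀ a, MonoidAlgebra.single (1 : N) a ∈ R := fun a => by
    let str : A ⟶ Γ(G.left, ⊤) := (Scheme.ΓSpecIso A).inv ≫ G.hom.appTop
    refine ⟨str.hom a, ?_⟩
    have hs : str ≫ co x = inc := by
      apply Spec.map_injective
      rw [Spec.map_comp]
      show _ = (test (𝟙 (Spec A)) inc).hom ≫ 𝟙 _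
      rw [← Over.w x]
      simp [co, str, Scheme.isoSpec_hom, Spec.map_comp, ← Scheme.toSpecΓ_naturality_assoc]
    exact congr((CommRingCat.Hom.hom $hs) a)
  -- `R` is graded
  have hgr : ∀ r ∈ R, ∀ n, MonoidAlgebra.single n (r.coeff n) ∈ R := by
    obtain ⟨r₁, r₂, r, hr, e₁, e₂, e⟩ := univ_mul (𝟙 (Spec A)) M
    let B₂ : CommRingCat.{u} := CommRingCat.of (MonoidAlgebra A (N × N))
    let inc₂ : A ⟶ B₂ := CommRingCat.ofHom MonoidAlgebra.singleOneRingHom
    let W : Subring (MonoidAlgebra A (N × N)) :=
      { carrier := {w | ∀ n, (curry (M := M) w).coeff n ∈ R}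
        mul_mem' := fun {v w} hv hw n => by
          rw [map_mul, MonoidAlgebra.coeff_mul]
          refine R.sum_mem fun p hp => R.sum_mem fun q hq => ?_
          dsimp only
          split_ifs
          · exact R.mul_mem (hv p) (hw q)
          · exact R.zero_mem
        one_mem' := fun n => by
          rw [map_one, MonoidAlgebra.one_def, MonoidAlgebra.coeff_single, Finsupp.single_apply]
          split_ifs
          · exact R.one_mem
          · exact R.zero_mem
        add_mem' := fun {v w} hv hw n => by
          rw [map_add, MonoidAlgebra.coeff_add, Finsupp.add_apply]; exact R.add_mem (hv n) (hw n)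
        zero_mem' := fun n => by simp
        neg_mem' := fun {v} hv n => by
          rw [map_neg, MonoidAlgebra.coeff_neg, Finsupp.neg_apply]; exact R.neg_mem (hv n) }
    let R' : CommRingCat.{u} := CommRingCat.of W
    let sub : R' ⟶ B₂ := CommRingCat.ofHom W.subtype
    let φR : A ⟶ R' := CommRingCat.ofHom
      ((MonoidAlgebra.singleOneRingHom : A →+* MonoidAlgebra A (N × N)).codRestrict W fun a n => by
        show (curry (M := M) (MonoidAlgebra.single (1, 1) a)).coeff n ∈ R
        rw [curry_single, MonoidAlgebra.coeff_single, Finsupp.single_apply]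
        split_ifs
        · exact hA a
        · exact R.zero_mem)
    have hR : φR ≫ sub = inc₂ := rfl
    have hfac : ∀ (f : N →* N × N) (h : inc ≫ CommRingCat.ofHom (ev2 A N f) = inc₂),
        (∀ z ∈ R, ev2 A N f z ∈ W) → ∃ y, th sub hR ≫ y = th (CommRingCat.ofHom (ev2 A N f)) h ≫ x :=
      fun f h hf => co_inv_mul_aux sub _ hR Subtype.val_injective fun g => by
        rw [co_comp]
        exact ⟨⟨_, hf _ ⟨g, rfl⟩⟩, rfl⟩
    have hinc : ∀ f : N →* N × N, inc ≫ CommRingCat.ofHom (ev2 A N f) = inc₂ := fun f => by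
      refine CommRingCat.hom_ext (RingHom.ext fun a => ?_)
      show ev2 A N f (MonoidAlgebra.single 1 a) = MonoidAlgebra.single 1 a
      rw [ev2_single, map_one]
    obtain ⟨y₁, hy₁⟩ := hfac (MonoidHom.inl N N) (hinc _) fun z hz n => by
      rw [curry_coeff_inl]; split_ifs
      exacts [hz, R.zero_mem]
    obtain ⟨y₂, hy₂⟩ := hfac (MonoidHom.inr N N) (hinc _) fun z hz n => by
      rw [curry_coeff_inr]; exact hA _
    have er₁ : r₁ = th (CommRingCat.ofHom (ev2 A N (MonoidHom.inl N N))) (hinc _) := Over.OverMorphism.ext e₁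
    have er₂ : r₂ = th (CommRingCat.ofHom (ev2 A N (MonoidHom.inr N N))) (hinc _) := Over.OverMorphism.ext e₂
    have er : r = th (CommRingCat.ofHom (ev2 A N (MonoidHom.prod (MonoidHom.id N) (MonoidHom.id N)))) (hinc _) :=
      Over.OverMorphism.ext e
    subst er₁ er₂ er
    have hx : th (CommRingCat.ofHom (ev2 A N (MonoidHom.prod (MonoidHom.id N) (MonoidHom.id N)))) (hinc _) ≫ x =
        th sub hR ≫ (y₁ * y₂) := by
      rw [MonObj.comp_mul, hy₁, hy₂]
      simp only [x, ← Category.assoc, hr, MonObj.mul_comp]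
    intro z hz n
    obtain ⟨g, rfl⟩ := hz
    have := congrArg co hx
    rw [co_comp, co_comp] at this
    have hmem : ev2 A N (MonoidHom.prod (MonoidHom.id N) (MonoidHom.id N)) ((co x).hom g) ∈ W :=
      (congr((CommRingCat.Hom.hom $this) g)) ▸ ((co (y₁ * y₂)).hom g).2
    have := hmem n
    rwa [curry_coeff_diag] at this
  -- `R` is stable under inversion
  let sN : MonoidAlgebra A N →+* MonoidAlgebra A N :=
    MonoidAlgebra.liftNCRingHom MonoidAlgebra.singleOneRingHom
      ((MonoidAlgebra.of A N).comp (MulEquiv.inv N).toMonoidHom) (fun _ _ => Commute.all _ _)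
  have hsN : ∀ (n : N) (a : A), sN (MonoidAlgebra.single n a) = MonoidAlgebra.single n⁻¹ a := fun n a => by
    simp [sN, MonoidAlgebra.liftNCRingHom_single, MonoidAlgebra.singleOneRingHom]
  have hinv : ∀ r ∈ R, sN r ∈ R := by
    let Rc : CommRingCat.{u} := CommRingCat.of R
    let sub : Rc ⟶ B := CommRingCat.ofHom R.subtype
    let φc : A ⟶ Rc := CommRingCat.ofHom ((inc.hom).codRestrict R hA)
    have hφc : φc ≫ sub = inc := CommRingCat.hom_ext (RingHom.ext fun a => rfl)
    obtain ⟨y, hy⟩ := co_inv_mul_aux (φ' := φc) sub x hφc Subtype.val_injective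
      fun g => ⟨⟨_, ⟨g, rfl⟩⟩, rfl⟩
    have hs' : inc ≫ CommRingCat.ofHom sN = inc :=
      CommRingCat.hom_ext (RingHom.ext fun a => (hsN 1 a).trans (by rw [inv_one]; rfl))
    have hev : th (CommRingCat.ofHom sN) hs' ≫ univPt (𝟙 (Spec A)) M = (univPt (𝟙 (Spec A)) M)⁻¹ := by
      refine eq_inv_of_mul_eq_one_left (Gm.dsFn_ext fun m => ?_)
      rw [Gm.dsFn_mul, Gm.dsFn_one, Gm.dsFn_comp]
      simp only [univPt, Gm.dsFn_dsPt]
      erw [appTop_SpecMap_apply, Iso.inv_hom_id_apply]
      show toG B (sN (MonoidAlgebra.single _ 1)) * toG B (MonoidAlgebra.single _ 1) = 1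
      rw [← map_mul, hsN, ← map_one (toG B)]
      congr 1
      refine (MonoidAlgebra.single_mul_single _ _ _ _).trans ?_
      rw [inv_mul_cancel, _root_.one_mul]
      rfl
    have hx : th (CommRingCat.ofHom sN) hs' ≫ x = th sub hφc ≫ y⁻¹ := by
      rw [GrpObj.comp_inv, hy]
      simp only [x, ← Category.assoc, hev, GrpObj.inv_comp]
    rintro z ⟨g, rfl⟩
    have := congrArg co hx
    rw [co_comp, co_comp] at this
    exact (congr((CommRingCat.Hom.hom $this) g)) ▸ ((co y⁻¹).hom g).2
  -- all monomials lie in `R`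
  let I : N → Ideal A := fun n =>
    { carrier := {a | MonoidAlgebra.single n a ∈ R}
      add_mem' := fun {a b} ha hb => by simpa [MonoidAlgebra.single_add] using R.add_mem ha hb
      zero_mem' := by simp
      smul_mem' := fun c a ha => by
        have := R.mul_mem (hA c) ha
        simpa [MonoidAlgebra.single_mul_single] using this }
  have hall : ∀ n, MonoidAlgebra.single n (1 : A) ∈ R := by
    intro n
    by_contra hn
    have hne : I n ≠ ⊤ := fun h => hn ((Ideal.eq_top_iff_one _).1 h)
    obtain ⟨m, hm, hle⟩ := (I n).exists_le_maximal hne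
    let P : Subgroup N :=
      { carrier := {p | ¬ I p ≤ m}
        mul_mem' := fun {p q} hp hq hpq => by
          obtain ⟨a, ha, ha'⟩ := SetLike.not_le_iff_exists.1 hp
          obtain ⟨b, hb, hb'⟩ := SetLike.not_le_iff_exists.1 hq
          have : a * b ∈ I (p * q) := by
            show MonoidAlgebra.single (p * q) (a * b) ∈ R
            simpa [MonoidAlgebra.single_mul_single] using R.mul_mem ha hb
          exact (hm.isPrime.mem_or_mem (hpq this)).elim ha' hb'
        one_mem' := fun h => hm.ne_top ((Ideal.eq_top_iff_one _).2 (h (hA 1)))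
        inv_mem' := fun {p} hp h => hp fun a ha => h (by
          show MonoidAlgebra.single p⁻¹ a ∈ R
          rw [← hsN]; exact hinv _ ha) }
    let K : Type u := MonoidAlgebra (A ⧸ m) (N ⧸ P)
    let φ : A ⟶ CommRingCat.of K := CommRingCat.ofHom
      ((MonoidAlgebra.singleOneRingHom).comp (Ideal.Quotient.mk m))
    let χ : N →* CommRingCat.of K := (MonoidAlgebra.of (A ⧸ m) (N ⧸ P)).comp (QuotientGroup.mk' P)
    have hkey : ∀ g, (Locus.ev φ χ).hom ((co x).hom g) = (Locus.ev φ 1).hom ((co x).hom g) := fun g => by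
      have hz : (co x).hom g ∈ R := ⟨g, rfl⟩
      generalize (co x).hom g = z at hz ⊢
      rw [← MonoidAlgebra.sum_coeff_single z, map_finsuppSum, map_finsuppSum]
      refine Finsupp.sum_congr fun p _ => ?_
      have hp : z.coeff p ∈ I p := hgr z hz p
      simp only [Locus.ev, CommRingCat.hom_ofHom, MonoidAlgebra.liftNCRingHom_single]
      by_cases hpP : p ∈ P
      · congr 1
        show MonoidAlgebra.single (QuotientGroup.mk' P p) 1 = 1
        rw [(QuotientGroup.eq_one_iff p).2 hpP |> fun e => show QuotientGroup.mk' P p = 1 from e]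
        rfl
      · have : Ideal.Quotient.mk m (z.coeff p) = 0 :=
          Ideal.Quotient.eq_zero_iff_mem.2 (not_not.1 hpP hp)
        simp [φ, this]
    have heq : evHom (𝟙 (Spec A)) M φ χ ≫ univPt (𝟙 (Spec A)) M =
        evHom (𝟙 (Spec A)) M φ 1 ≫ univPt (𝟙 (Spec A)) M := by
      rw [← cancel_mono u, Category.assoc, Category.assoc]
      refine co_injective (CommRingCat.hom_ext (RingHom.ext fun g => ?_))
      have e1 : ∀ (c : N →* CommRingCat.of K), evHom (𝟙 (Spec A)) M φ c =
          th (Locus.ev φ c) (Locus.inc_ev φ c) := fun c => rfl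
      rw [e1, e1, co_comp, co_comp]
      exact hkey g
    have h1 := congrArg (fun y => Gm.dsFn y n.toAdd) heq
    simp only [dsFn_evHom] at h1
    have h2 := toG_injective _ h1
    haveI : Nontrivial (A ⧸ m) := Ideal.Quotient.nontrivial_iff.2 hm.ne_top
    have h3 : QuotientGroup.mk' P n = 1 :=
      MonoidAlgebra.of_injective (show MonoidAlgebra.of (A ⧸ m) (N ⧸ P) (QuotientGroup.mk' P n) =
        MonoidAlgebra.of (A ⧸ m) (N ⧸ P) 1 by rw [map_one]; exact h2)
    exact (QuotientGroup.eq_one_iff n).1 h3 hle
  have hsurj : Function.Surjective (co x).hom := fun z => by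
    have : z ∈ R := by
      rw [← MonoidAlgebra.sum_coeff_single z]
      refine R.sum_mem fun n _ => ?_
      have := R.mul_mem (hA (z.coeff n)) (hall n)
      simpa [MonoidAlgebra.single_mul_single] using this
    exact this
  haveI : IsClosedImmersion (Spec.map (co x)) := IsClosedImmersion.spec_of_surjective _ hsurj
  haveI := isIso_univPt (A := A) (M := M)
  have hx : x.left = Spec.map (co x) ≫ G.left.isoSpec.inv := by
    rw [co, Spec.map_preimage, Category.assoc, Iso.hom_inv_id, Category.comp_id]
  haveI : IsIso (univPt (𝟙 (Spec A)) M).left := inferInstanceAs (IsIso ((Over.forget (Spec A)).map (univPt (𝟙 (Spec A)) M)))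
  haveI : IsClosedImmersion x.left := by rw [hx]; infer_instance
  rw [show u.left = inv (univPt (𝟙 (Spec A)) M).left ≫ x.left by simp [x]]
  infer_instance

end Groth.Agent.Lib.MultSmooth
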