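import Groth.Agent.H87.MT
import Mathlib.AlgebraicGeometry.Morphisms.Smooth
import Mathlib.AlgebraicGeometry.Morphisms.LocalFlatDescent
import Mathlib.RingTheory.Smooth.Basic

/-!
# Smoothness through infinitesimal lifting, fpqc locally on the base
-/

set_option autoImplicit false
universe u

open CategoryTheory CategoryTheory.Limits AlgebraicGeometry
open Groth.Agent.Lib.Tori

namespace Groth.Agent.Lib.MultSmooth

set_option linter.style.haveILetI false

variable {X Y T : Scheme.{u}}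

/-- Square-zero lifting for the morphisms to `Y` factoring through `g`. -/
def LiftsOver (f : X ⟶ Y) (g : T ⟶ Y) : Prop :=
  ∀ (A : CommRingCat.{u}) (J : Ideal A), J ^ 2 = ⊥ → ∀ (t : Spec A ⟶ T)
    (c₀ : Spec (CommRingCat.of (A ⧸ J)) ⟶ X),
    c₀ ≫ f = Spec.map (CommRingCat.ofHom (Ideal.Quotient.mk J)) ≫ t ≫ g →
    ∃ c : Spec A ⟶ X, c ≫ f = t ≫ g ∧ Spec.map (CommRingCat.ofHom (Ideal.Quotient.mk J)) ≫ c = c₀

theorem liftsOver_snd {f : X ⟶ Y} {g : T ⟶ Y} (h : LiftsOver f g) :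
    LiftsOver (pullback.snd f g) (𝟙 T) := by
  intro A J hJ t c₀ hc₀
  rw [Category.comp_id] at hc₀
  obtain ⟨c, hc, hc'⟩ := h A J hJ t (c₀ ≫ pullback.fst f g) (by
    rw [Category.assoc, pullback.condition, reassoc_of% hc₀])
  refine ⟨pullback.lift c t hc, by rw [pullback.lift_snd, Category.comp_id], ?_⟩
  apply pullback.hom_ext
  · rw [Category.assoc, pullback.lift_fst, hc']
  · rw [Category.assoc, pullback.lift_snd, hc₀]

theorem smooth_of_lifts [IsAffine X] [IsAffine Y] (f : X ⟶ Y) [LocallyOfFinitePresentation f]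
    (h : LiftsOver f (𝟙 Y)) : Smooth f := by
  rw [HasRingHomProperty.iff_of_isAffine (P := @Smooth), RingHom.smooth_def]
  refine ⟨?_, HasRingHomProperty.appTop (P := @LocallyOfFinitePresentation) f inferInstance⟩
  algebraize [f.appTop.hom]
  show Algebra.FormallySmooth Γ(Y, ⊤) Γ(X, ⊤)
  refine Algebra.FormallySmooth.of_comp_surjective fun B _ _ I hI φ => ?_
  let ρ : Γ(Y, ⊤) ⟶ CommRingCat.of B := CommRingCat.ofHom (algebraMap Γ(Y, ⊤) B)
  obtain ⟨c, hc, hc'⟩ := h (CommRingCat.of B) I hI (Spec.map ρ ≫ Y.isoSpec.inv)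
    (Spec.map (CommRingCat.ofHom φ.toRingHom) ≫ X.isoSpec.inv) (by
      rw [Category.comp_id, ← Spec.map_comp_assoc, Category.assoc,
        show X.isoSpec.inv ≫ f = Spec.map f.appTop ≫ Y.isoSpec.inv from Scheme.isoSpec_inv_naturality f |>.symm,
        ← Spec.map_comp_assoc]
      congr 2
      ext z
      exact φ.commutes z)
  let ψ : Γ(X, ⊤) ⟶ CommRingCat.of B := Spec.preimage (c ≫ X.isoSpec.hom)
  have e1 : f.appTop ≫ ψ = ρ := by
    apply Spec.map_injective
    rw [Spec.map_comp, Spec.map_preimage, Category.assoc, ← cancel_mono Y.isoSpec.inv, Category.assoc,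
      Category.assoc, Scheme.isoSpec_inv_naturality, Iso.hom_inv_id_assoc, hc, Category.comp_id]
  have e2 : ψ ≫ CommRingCat.ofHom (Ideal.Quotient.mk I) = CommRingCat.ofHom φ.toRingHom := by
    apply Spec.map_injective
    rw [Spec.map_comp, Spec.map_preimage, ← Category.assoc, ← cancel_mono X.isoSpec.inv]
    erw [hc']
    simp
  exact ⟨⟨ψ.hom, fun z => congr((CommRingCat.Hom.hom $e1) z)⟩,
    AlgHom.ext fun z => congr((CommRingCat.Hom.hom $e2) z)⟩

/-- Lifting along a smooth affine morphism. -/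
theorem exists_lift_of_smooth (f : X ⟶ Y) [Smooth f] [IsAffineHom f] {A : CommRingCat.{u}}
    (J : Ideal A) (hJ : J ^ 2 = ⊥) (t : Spec A ⟶ Y) (c₀ : Spec (CommRingCat.of (A ⧸ J)) ⟶ X)
    (hc₀ : c₀ ≫ f = Spec.map (CommRingCat.ofHom (Ideal.Quotient.mk J)) ≫ t) :
    ∃ c : Spec A ⟶ X, c ≫ f = t ∧ Spec.map (CommRingCat.ofHom (Ideal.Quotient.mk J)) ≫ c = c₀ := by
  let q := pullback.snd f t
  haveI : IsAffine (pullback f t) := isAffine_of_isAffineHom q
  let str : A ⟶ Γ(pullback f t, ⊤) := (Scheme.ΓSpecIso A).inv ≫ q.appTop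
  have hq : (pullback f t).isoSpec.hom ≫ Spec.map str = q := by
    simp [str, Spec.map_comp, Scheme.isoSpec_hom, ← Scheme.toSpecΓ_naturality_assoc]
  have hs : Smooth (Spec.map str) :=
    (MorphismProperty.cancel_left_of_respectsIso @Smooth (pullback f t).isoSpec.hom _).1
      (by rw [hq]; exact MorphismProperty.of_isPullback (IsPullback.of_hasPullback f t) ‹_›)
  rw [HasRingHomProperty.Spec_iff (P := @Smooth)] at hs
  algebraize [str.hom]
  haveI : Algebra.Smooth A Γ(pullback f t, ⊤) := hs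
  let φ₀ : Γ(pullback f t, ⊤) ⟶ CommRingCat.of (A ⧸ J) :=
    Spec.preimage (pullback.lift c₀ (Spec.map (CommRingCat.ofHom (Ideal.Quotient.mk J))) hc₀ ≫
      (pullback f t).isoSpec.hom)
  have e0 : str ≫ φ₀ = CommRingCat.ofHom (Ideal.Quotient.mk J) := by
    apply Spec.map_injective
    rw [Spec.map_comp, Spec.map_preimage, Category.assoc, hq, pullback.lift_snd]
  obtain ⟨ψ, hψ⟩ := Algebra.FormallySmooth.comp_surjective A Γ(pullback f t, ⊤) J hJ
    (⟨φ₀.hom, fun z => congr((CommRingCat.Hom.hom $e0) z)⟩ : Γ(pullback f t, ⊤) →ₐ[A] A ⧸ J)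
  have h2 : CommRingCat.ofHom ψ.toRingHom ≫ CommRingCat.ofHom (Ideal.Quotient.mk J) = φ₀ := by
    ext z
    exact AlgHom.congr_fun hψ z
  have h1 : str ≫ CommRingCat.ofHom ψ.toRingHom = 𝟙 A := by
    ext z
    exact ψ.commutes z
  refine ⟨Spec.map (CommRingCat.ofHom ψ.toRingHom) ≫ (pullback f t).isoSpec.inv ≫ pullback.fst f t, ?_, ?_⟩
  · rw [Category.assoc, Category.assoc, pullback.condition]
    show _ ≫ _ ≫ q ≫ t = t
    rw [← hq, Category.assoc, Iso.inv_hom_id_assoc, ← Spec.map_comp_assoc, h1, Spec.map_id, Category.id_comp]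
  · rw [← Spec.map_comp_assoc, h2, Spec.map_preimage, Category.assoc, Iso.hom_inv_id_assoc,
      pullback.lift_fst]

/-- Smoothness from liftings fpqc locally on the base. -/
theorem smooth_of_locally {S S' : Scheme.{u}} (f : X ⟶ S) [IsAffineHom f]
    [LocallyOfFinitePresentation f] (p : S' ⟶ S) [Flat p] (hc : Basic.IsQCCover p)
    (hloc : ∀ s' : S', ∃ U : S'.Opens, s' ∈ U ∧ ∀ O : S'.Opens, O ≤ U → IsAffineOpen O →
      LiftsOver f (O.ι ≫ p)) : Smooth f := by
  choose U hU hlift using hloc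
  have hO : ∀ s', ∃ O : S'.Opens, IsAffineOpen O ∧ s' ∈ O ∧ (O : Set S') ⊆ U s' := fun s' =>
    exists_isAffineOpen_mem_and_subset (hU s')
  choose O hOaff hsO hOU using hO
  have hP : ∀ s', Smooth (pullback.snd f ((O s').ι ≫ p)) := fun s' => by
    haveI : IsAffine (O s' : Scheme.{u}) := hOaff s'
    haveI : IsAffine (pullback f ((O s').ι ≫ p)) :=
      isAffine_of_isAffineHom (pullback.snd f ((O s').ι ≫ p))
    exact smooth_of_lifts _ (liftsOver_snd (hlift s' (O s') (hOU s') (hOaff s')))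
  have hUS : TopologicalSpace.IsOpenCover O :=
    TopologicalSpace.IsOpenCover.mk (eq_top_iff.mpr fun x _ => TopologicalSpace.Opens.mem_iSup.mpr ⟨x, hsO x⟩)
  have h' : Smooth (Limits.pullback.snd f p) := by
    refine IsZariskiLocalAtTarget.of_openCover (P := @Smooth) (𝒰 := S'.openCoverOfIsOpenCover O hUS) fun x => ?_
    change Smooth (Limits.pullback.snd (Limits.pullback.snd f p) (O x).ι)
    rw [← Limits.pullbackLeftPullbackSndIso_hom_snd]
    exact (MorphismProperty.cancel_left_of_respectsIso @Smooth _ _).2 (hP x)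
  refine IsZariskiLocalAtTarget.of_openCover (P := @Smooth)
    (𝒰 := S.openCoverOfIsOpenCover (fun V : S.affineOpens => V.1) (iSup_affineOpens_eq_top S)) ?_
  intro (V : S.affineOpens)
  obtain ⟨W, hle, hqc, hqs⟩ := Groth.Agent.H87.MT.exists_qc_res p hc V.2
  change Smooth (Limits.pullback.snd f V.1.ι)
  refine MorphismProperty.of_pullback_snd_of_descendsAlong (P := @Smooth)
    (Q := @Surjective ⊓ @Flat ⊓ @QuasiCompact) (g := p.resLE V.1 W hle) ⟨⟨hqs, inferInstance⟩, hqc⟩ ?_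
  rw [← Limits.pullbackLeftPullbackSndIso_hom_snd]
  refine (MorphismProperty.cancel_left_of_respectsIso @Smooth _ _).2 ?_
  have h3 : Smooth (Limits.pullback.snd (Limits.pullback.snd f p) W.ι) :=
    MorphismProperty.of_isPullback (IsPullback.of_hasPullback _ _) h'
  have key : ∀ g : (W : Scheme.{u}) ⟶ S, g = W.ι ≫ p → Smooth (Limits.pullback.snd f g) := by
    rintro _ rfl
    rw [← Limits.pullbackLeftPullbackSndIso_inv_snd_snd f p W.ι]
    exact (MorphismProperty.cancel_left_of_respectsIso @Smooth _ _).2 h3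
  exact key _ (Scheme.Hom.resLE_comp_ι _ _)

end Groth.Agent.Lib.MultSmooth
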