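import Groth.Agent.Lib.MultSmooth.Conj
import Groth.Agent.H87.CentralEq

/-!
# Homomorphisms between diagonalisable groups lift uniquely along square-zero extensions
-/

set_option autoImplicit false
universe u

open CategoryTheory MonoidalCategory CartesianMonoidalCategory MonObj GrpObj AlgebraicGeometry
open Groth.Agent.Lib.RedPts Groth.Agent.H87 Groth.Agent.H87.HomDS
open Groth.Agent.H87.Locus (toG)

namespace Groth.Agent.Lib.MultSmooth

set_option linter.style.haveILetI false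

variable {A : CommRingCat.{u}} (J : Ideal A) (hJ : J ^ 2 = ⊥) {M M' : Type} [AddCommGroup M] [AddCommGroup M']

theorem ds_comm {X : Over (Spec A)} (a b : X ⟶ Red.DS (Spec A) M) : a * b = b * a :=
  Gm.dsFn_ext fun m => by rw [Gm.dsFn_mul, Gm.dsFn_mul, _root_.mul_comm]

include hJ in
/-- Rigidity. -/
theorem hom_eq_of_eq (ψ ψ' : Red.DS (Spec A) M ⟶ Red.DS (Spec A) M') [IsMonHom ψ] [IsMonHom ψ']
    (h : ∀ (Y : Over (Spec A))
      (_ : Y ⟶ test (𝟙 (Spec A)) (CommRingCat.ofHom (Ideal.Quotient.mk J) : A ⟶ CommRingCat.of (A ⧸ J)))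
      (y : Y ⟶ Red.DS (Spec A) M), y ≫ ψ = y ≫ ψ') : ψ = ψ' := by
  haveI : IsAffine (Red.DS (Spec A) M').left := by
    haveI := Groth.Agent.Lib.Tori.DS.isAffineHom (Spec A) M'
    exact isAffine_of_isAffineHom (Red.DS (Spec A) M').hom
  obtain ⟨k, -, hk⟩ := exists_conj J hJ ψ ψ' h
  let p : Red.DS (Spec A) M ⟶ test (𝟙 (Spec A)) (𝟙 A) :=
    Over.homMk (Red.DS (Spec A) M).hom (by simp [test])
  have := hk _ p (𝟙 _)
  rw [ds_comm (p ≫ k) (𝟙 _ ≫ ψ), Category.id_comp, Category.id_comp] at this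
  rw [_root_.mul_inv_eq_iff_eq_mul, ds_comm ψ' (p ≫ k), ds_comm ψ (p ≫ k)] at this
  exact HomDS.group_cancel this

include hJ in
/-- **Lifting of homomorphisms** given on the points over the closed subscheme. -/
theorem exists_hom_lift
    (Φ : ∀ {Y : Over (Spec A)}
      (_ : Y ⟶ test (𝟙 (Spec A)) (CommRingCat.ofHom (Ideal.Quotient.mk J) : A ⟶ CommRingCat.of (A ⧸ J)))
      (_ : Y ⟶ Red.DS (Spec A) M), Y ⟶ Red.DS (Spec A) M')
    (hnat : ∀ {Y Y' : Over (Spec A)} (r : Y' ⟶ Y)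
      (q : Y ⟶ test (𝟙 (Spec A)) (CommRingCat.ofHom (Ideal.Quotient.mk J) : A ⟶ CommRingCat.of (A ⧸ J)))
      (y : Y ⟶ Red.DS (Spec A) M), Φ (r ≫ q) (r ≫ y) = r ≫ Φ q y)
    (hmul : ∀ {Y : Over (Spec A)}
      (q : Y ⟶ test (𝟙 (Spec A)) (CommRingCat.ofHom (Ideal.Quotient.mk J) : A ⟶ CommRingCat.of (A ⧸ J)))
      (y y' : Y ⟶ Red.DS (Spec A) M), Φ q (y * y') = Φ q y * Φ q y') :
    ∃ ψ : Red.DS (Spec A) M ⟶ Red.DS (Spec A) M', IsMonHom ψ ∧
      ∀ (Y : Over (Spec A))
        (q : Y ⟶ test (𝟙 (Spec A)) (CommRingCat.ofHom (Ideal.Quotient.mk J) : A ⟶ CommRingCat.of (A ⧸ J)))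
        (y : Y ⟶ Red.DS (Spec A) M), y ≫ ψ = Φ q y := by
  let A₀ : CommRingCat.{u} := CommRingCat.of (A ⧸ J)
  let mk : A ⟶ A₀ := CommRingCat.ofHom (Ideal.Quotient.mk J)
  let S₀ := test (𝟙 (Spec A)) mk
  let t : Spec A₀ ⟶ Spec A := S₀.hom
  have hq : ∀ {Y : Over (Spec A)} (q : Y ⟶ S₀), q.left ≫ t = Y.hom := fun q => Over.w q
  have huniq : ∀ {Y : Over (Spec A)} (q q' : Y ⟶ S₀), q = q' := fun q q' => by
    haveI : IsClosedImmersion (Spec.map mk) :=
      IsClosedImmersion.spec_of_surjective mk Ideal.Quotient.mk_surjective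
    apply Over.OverMorphism.ext
    rw [← cancel_mono (Spec.map mk)]
    have h1 := Over.w q
    have h2 := Over.w q'
    simp [S₀] at h1 h2
    rw [h1, h2]
  have hone : ∀ {Y : Over (Spec A)} (q : Y ⟶ S₀), Φ q 1 = 1 := fun q => by
    have h := hmul q 1 1
    exact (HomDS.group_cancel ((_root_.mul_one _).trans ((congrArg (Φ q) (_root_.one_mul 1)).symm.trans h))).symm
  -- the universal point over the closed subscheme
  let B₀ : CommRingCat.{u} := ring (A := A₀) M
  let U₀ := test t (CommRingCat.ofHom MonoidAlgebra.singleOneRingHom : A₀ ⟶ B₀)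
  let q₀ : U₀ ⟶ S₀ := Over.homMk (Spec.map (CommRingCat.ofHom MonoidAlgebra.singleOneRingHom : A₀ ⟶ B₀)) rfl
  let y₀ : U₀ ⟶ Red.DS (Spec A) M := univPt t M
  let z₀ : M' → B₀ := fun n => (Scheme.ΓSpecIso B₀).hom (Gm.dsFn (Φ q₀ y₀) n)
  have hz₀ : ∀ n, toG B₀ (z₀ n) = Gm.dsFn (Φ q₀ y₀) n := fun n =>
    Iso.hom_inv_id_apply (Scheme.ΓSpecIso B₀) _
  have hev : ∀ {D : CommRingCat.{u}} (φ : A₀ ⟶ D) (ch : Multiplicative M →* D) (q : test t φ ⟶ S₀) (n : M'),
      Gm.dsFn (Φ q (evHom t M φ ch ≫ univPt t M)) n = toG D (Locus.ev φ ch (z₀ n)) := by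
    intro D φ ch q n
    rw [huniq q (evHom t M φ ch ≫ q₀), hnat, Gm.dsFn_comp]
    exact appTop_SpecMap_apply _ _
  have hGL : ∀ n, GroupLike.IsGL (G := Multiplicative M) (A := A₀) (z₀ n) := fun n => by
    obtain ⟨r₁, r₂, r, hr, e₁, e₂, e⟩ := univ_mul t M
    have hr₁ : r₁ = evHom t M _ _ := Over.OverMorphism.ext e₁
    have hr₂ : r₂ = evHom t M _ _ := Over.OverMorphism.ext e₂
    have hr₃ : r = evHom t M _ _ := Over.OverMorphism.ext e
    subst hr₁ hr₂ hr₃
    let B₂ := CommRingCat.of (MonoidAlgebra A₀ (Multiplicative M × Multiplicative M))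
    let q₂ : test t (CommRingCat.ofHom MonoidAlgebra.singleOneRingHom : A₀ ⟶ B₂) ⟶ S₀ :=
      Over.homMk (Spec.map (CommRingCat.ofHom MonoidAlgebra.singleOneRingHom : A₀ ⟶ B₂)) rfl
    have h1 := congrArg (fun y => Gm.dsFn (Φ q₂ y) n) hr
    simp only [hmul, Gm.dsFn_mul] at h1
    rw [hev, hev, hev, ← map_mul] at h1
    let q₁ : test t (𝟙 A₀) ⟶ S₀ := Over.homMk (Spec.map (𝟙 A₀)) rfl
    have h0 := congrArg (fun y => Gm.dsFn (Φ q₁ y) n) (evHom_one t M)
    simp only [hone, Gm.dsFn_one] at h0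
    rw [hev, ← map_one (toG A₀)] at h0
    rw [GroupLike.isGL_iff]
    have hd : ∀ (φ : Multiplicative M →* Multiplicative M × Multiplicative M) (z : MonoidAlgebra A₀ (Multiplicative M)),
        MonoidAlgebra.mapDomainRingHom A₀ φ z = (Locus.ev (D := B₂) (CommRingCat.ofHom MonoidAlgebra.singleOneRingHom)
          ((MonoidAlgebra.of A₀ (Multiplicative M × Multiplicative M)).comp φ)).hom z := by
      intro φ z
      induction z using MonoidAlgebra.induction_linear with
      | zero => rw [map_zero, map_zero]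
      | add a b ha hb => rw [map_add, map_add, ha, hb]
      | single m a =>
        simp
        show _ = (MonoidAlgebra.single 1 a * MonoidAlgebra.single (φ m) 1 : MonoidAlgebra A₀ _)
        simp
    constructor
    · exact (hd _ _).trans ((toG_injective B₂ h1).trans (congrArg₂ (fun a b => a * b) (hd _ _).symm (hd _ _).symm))
    · refine Eq.trans ?_ (toG_injective A₀ h0)
      generalize z₀ n = f
      show MonoidAlgebra.lift A₀ A₀ _ 1 f = (Locus.ev (𝟙 A₀) 1).hom f
      induction f using MonoidAlgebra.induction_linear with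
      | zero => rw [map_zero, map_zero]
      | add a b ha hb => rw [map_add, map_add, ha, hb]
      | single m a => simp [MonoidAlgebra.lift_single]
  have hker : ∀ z ∈ RingHom.ker (Ideal.Quotient.mk J), IsNilpotent z := fun z hz =>
    ⟨2, by
      have h := Ideal.pow_mem_pow (Ideal.mk_ker (I := J) ▸ hz) 2
      rw [hJ] at h
      exact h⟩
  choose z hzGL hz using fun n =>
    GroupLike.exists_lift (Ideal.Quotient.mk J) hker Ideal.Quotient.mk_surjective (hGL n)
  have hz_add : ∀ n n', z (n + n') = z n * z n' := fun n n' => by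
    refine GroupLike.eq_of_map_eq (Ideal.Quotient.mk J) hker (hzGL _) ((hzGL n).mul (hzGL n')) ?_
    rw [map_mul, hz, hz, hz]
    apply toG_injective B₀
    show toG B₀ (z₀ (n + n')) = toG B₀ (z₀ n * z₀ n')
    rw [map_mul, hz₀, hz₀, hz₀, Gm.dsFn_add]
  have hz_zero : z 0 = 1 := by
    refine GroupLike.eq_of_map_eq (Ideal.Quotient.mk J) hker (hzGL _) GroupLike.isGL_one ?_
    rw [map_one, hz]
    apply toG_injective B₀
    show toG B₀ (z₀ 0) = toG B₀ 1
    rw [map_one, hz₀, Gm.dsFn_zero]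
  let χ : Multiplicative M' →* Γ((Red.DS (Spec A) M).left, ⊤) :=
    { toFun := fun n => CentralEq.evalAt _ (CentralEq.charOf (𝟙 (Red.DS (Spec A) M))) (z n.toAdd)
      map_one' := by rw [show (1 : Multiplicative M').toAdd = 0 from rfl, hz_zero, map_one]
      map_mul' := fun n n' => by rw [toAdd_mul, hz_add, map_mul] }
  let ψ : Red.DS (Spec A) M ⟶ Red.DS (Spec A) M' := Gm.dsPt χ
  have hψ : ∀ {X : Over (Spec A)} (x : X ⟶ Red.DS (Spec A) M) (n : M'),
      Gm.dsFn (x ≫ ψ) n = CentralEq.evalAt X (CentralEq.charOf x) (z n) := fun {X} x n => by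
    rw [Gm.dsFn_comp, Gm.dsFn_dsPt]
    show x.left.appTop (CentralEq.evalAt _ (CentralEq.charOf (𝟙 _)) (z n)) = _
    rw [← CentralEq.evalAt_comp, Category.comp_id]
  refine ⟨ψ, isMonHom_of_points ψ fun X a b => Gm.dsFn_ext fun n => ?_, fun Y q y => Gm.dsFn_ext fun n => ?_⟩
  · rw [hψ, Gm.dsFn_mul, hψ, hψ, CentralEq.evalAt_mul _ _ (hzGL n)]
  · obtain ⟨r, hr⟩ := exists_fac t M q.left (hq q) y
    rw [hψ]
    conv_rhs => rw [← hr, huniq q (r ≫ q₀), hnat, Gm.dsFn_comp, ← hz₀]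
    rw [← hr, CentralEq.evalAt_comp]
    refine congrArg r.left.appTop.hom ?_
    have hz' : MonoidAlgebra.mapRingHom (Multiplicative M) (Ideal.Quotient.mk J) (z n) = z₀ n := hz n
    rw [← hz']
    show _ = (Scheme.ΓSpecIso B₀).inv.hom _
    generalize z n = f
    induction f using MonoidAlgebra.induction_linear with
    | zero => simp
    | add a b ha hb => rw [map_add, map_add, map_add, ha, hb]
    | single m a =>
      rw [CentralEq.evalAt_single, MonoidAlgebra.mapRingHom_single]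
      have hm : CentralEq.charOf (univPt t M) m = toG B₀ (MonoidAlgebra.single m 1) := by
        show Gm.dsFn (univPt t M) m.toAdd = _
        rw [univPt, Gm.dsFn_dsPt]
        rfl
      have ha : CentralEq.rho U₀ a = toG B₀ (MonoidAlgebra.single 1 (Ideal.Quotient.mk J a)) := by
        let φ : A ⟶ B₀ := mk ≫ CommRingCat.ofHom MonoidAlgebra.singleOneRingHom
        have hφ : U₀.hom = Spec.map φ := by
          show Spec.map _ ≫ Spec.map mk ≫ 𝟙 _ = _
          rw [Category.comp_id, ← Spec.map_comp]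
        show U₀.hom.appTop ((Scheme.ΓSpecIso A).inv a) = _
        rw [hφ, appTop_SpecMap_apply, Iso.inv_hom_id_apply]
        rfl
      rw [hm, ha]
      show (Scheme.ΓSpecIso B₀).inv.hom _ * (Scheme.ΓSpecIso B₀).inv.hom _ = _
      rw [← map_mul]
      congr 1
      refine (MonoidAlgebra.single_mul_single _ _ _ _).trans ?_
      rw [_root_.one_mul, _root_.mul_one]

end Groth.Agent.Lib.MultSmooth
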