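import Groth.Agent.Lib.MultSmooth.Main
import Groth.Agent.Lib.MultSmooth.HomLift
import Groth.Agent.Lib.MultSmooth.ClosedImm
import Groth.Agent.Lib.AlgSpMor.Sep
import Groth.Prelude.Def_Red2

/-!
# Transporters and normalisers of subgroups of multiplicative type
-/

set_option autoImplicit false
universe u

open CategoryTheory MonoidalCategory CartesianMonoidalCategory MonObj GrpObj AlgebraicGeometry
open CategoryTheory.Limits
open Groth.Agent.Lib.RedPts Groth.Agent.H87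

namespace Groth.Agent.Lib.MultSmooth

set_option linter.style.haveILetI false

variable {S : Scheme.{u}} {H G : Over S} [GrpObj H] [GrpObj G]

/-- **A subgroup of multiplicative type of an affine group is closed.** -/
theorem isClosedImmersion_of_isMultTypeFT (hH : SGA3x.IsMultTypeFT H) [IsAffineHom G.hom]
    (i : H ⟶ G) [IsMonHom i] [Mono i] : IsClosedImmersion i.left := by
  obtain ⟨S', f, hf, hs, hc, hloc⟩ := hH
  have h1 : Charts.Fib @IsClosedImmersion f i := Charts.fib_of_cover _ fun s' => by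
    obtain ⟨O, hO, M, iM, hM, ⟨e₀⟩⟩ := hloc s'
    obtain ⟨V, hV, hsV, hVO⟩ := exists_isAffineOpen_mem_and_subset hO
    refine ⟨V, hsV, ?_⟩
    let A : CommRingCat.{u} := Γ(S', V)
    let t : Spec A ⟶ S := hV.isoSpec.inv ≫ V.ι ≫ f
    have hVe : (Spec A : Scheme.{u}) = Spec Γ(S', V) := rfl
    let r : Spec A ⟶ (O : Scheme.{u}) := hV.isoSpec.inv ≫ S'.homOfLE hVO
    let e := Tori.BaseChange.bcCongr (show t = r ≫ O.ι ≫ f by simp [t, r]) H ≪≫ Charts.resChart e₀ r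
    let v := e.inv.hom.hom ≫ (Over.pullback t).map i
    haveI : IsMonHom v := isMonHom_transport t e i
    haveI : IsIso e.inv.hom.hom :=
      Tori.BaseChange.isIso_hom e.symm
    haveI : Mono v := mono_comp _ _
    haveI : IsAffine ((Over.pullback t).obj G).left := by
      haveI : IsAffineHom ((Over.pullback t).obj G).hom :=
        MorphismProperty.pullback_snd (P := @IsAffineHom) _ _ inferInstance
      exact isAffine_of_isAffineHom ((Over.pullback t).obj G).hom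
    have hv : IsClosedImmersion v.left := isClosedImmersion_of_mono v
    have ht : Charts.Fib @IsClosedImmersion t i := by
      haveI : IsIso e.inv.hom.hom.left := inferInstanceAs (IsIso ((Over.forget _).map e.inv.hom.hom))
      have : v.left = e.inv.hom.hom.left ≫ ((Over.pullback t).map i).left := rfl
      rw [this] at hv
      exact (MorphismProperty.cancel_left_of_respectsIso @IsClosedImmersion _ _).1 hv
    refine Charts.fib_congr _ ?_ i (Charts.fib_base _ hV.isoSpec.hom ht)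
    simp [t]
  have h2 : Charts.Fib @IsClosedImmersion (𝟙 S) i := Charts.fib_of_cover _ fun x => by
    obtain ⟨O, hO, hxO, -⟩ := exists_isAffineOpen_mem_and_subset (X := S) (x := x) (U := ⊤) trivial
    obtain ⟨W, hle, hqc, hsj⟩ := MT.exists_qc_res f hc hO
    refine ⟨O, hxO, Charts.fib_descend _ (f.resLE O W hle) ?_⟩
    refine Charts.fib_congr _ ?_ i (Charts.fib_base _ W.ι h1)
    simp
  exact (Charts.iff_natIso @IsClosedImmersion Over.pullbackId i).mp h2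

variable {H₁ H₂ : Over S} [GrpObj H₁] [GrpObj H₂] (i₁ : H₁ ⟶ G) (i₂ : H₂ ⟶ G)

/-- `g H₁ g⁻¹ ⊆ H₂`. -/
def Fwd {X : Over S} (g : X ⟶ G) : Prop :=
  ∀ (X' : Over S) (x : X' ⟶ X) (h : X' ⟶ H₁),
    ∃ h' : X' ⟶ H₂, (x ≫ g) * (h ≫ i₁) * (x ≫ g)⁻¹ = h' ≫ i₂

/-- A point of a chart, as a point of `G`. -/
noncomputable def tr {A : CommRingCat.{u}} (t : Spec A ⟶ S) {M : Type} [AddCommGroup M]
    (e : Grp.mk (Red.bc t H) ≅ Grp.mk (Red.DS (Spec A) M)) (i : H ⟶ G) {Y : Over (Spec A)}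
    (y : Y ⟶ Red.DS (Spec A) M) : (Over.map t).obj Y ⟶ G :=
  BC.down t (y ≫ e.inv.hom.hom) ≫ i

theorem tr_eq_down {A : CommRingCat.{u}} (t : Spec A ⟶ S) {M : Type} [AddCommGroup M]
    (e : Grp.mk (Red.bc t H) ≅ Grp.mk (Red.DS (Spec A) M)) (i : H ⟶ G) {Y : Over (Spec A)}
    (y : Y ⟶ Red.DS (Spec A) M) : tr t e i y = BC.down t (y ≫ e.inv.hom.hom ≫ (Over.pullback t).map i) := by
  rw [tr, ← Category.assoc, BC.down_map]

variable {A : CommRingCat.{u}} (J : Ideal A) (t : Spec A ⟶ S)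
  {M M' : Type} [AddCommGroup M] [AddCommGroup M']
  (e₁ : Grp.mk (Red.bc t H₁) ≅ Grp.mk (Red.DS (Spec A) M))
  (e₂ : Grp.mk (Red.bc t H₂) ≅ Grp.mk (Red.DS (Spec A) M'))

/-- The homomorphism between the charts induced by a point of the transporter over the closed
subscheme, lifted. -/
theorem exists_hom_of_fwd (hJ : J ^ 2 = ⊥) [IsMonHom i₁] [IsMonHom i₂] [Mono i₂]
    (g₀ : Over.mk (Spec.map (CommRingCat.ofHom (Ideal.Quotient.mk J)) ≫ t) ⟶ G) (h₀ : Fwd i₁ i₂ g₀) :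
    ∃ ψ : Red.DS (Spec A) M ⟶ Red.DS (Spec A) M', IsMonHom ψ ∧
      ∀ (Y : Over (Spec A))
        (s : (Over.map t).obj Y ⟶ Over.mk (Spec.map (CommRingCat.ofHom (Ideal.Quotient.mk J)) ≫ t)),
        s.left ≫ Spec.map (CommRingCat.ofHom (Ideal.Quotient.mk J)) = Y.hom →
        ∀ (y : Y ⟶ Red.DS (Spec A) M),
          (s ≫ g₀) * tr t e₁ i₁ y * (s ≫ g₀)⁻¹ = tr t e₂ i₂ (y ≫ ψ) := by
  let mk : A ⟶ CommRingCat.of (A ⧸ J) := CommRingCat.ofHom (Ideal.Quotient.mk J)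
  let T₀ := HomDS.test (𝟙 (Spec A)) mk
  let sOf : ∀ {Y : Over (Spec A)} (_ : Y ⟶ T₀), (Over.map t).obj Y ⟶ Over.mk (Spec.map mk ≫ t) :=
    fun {Y} q => Over.homMk q.left (by
      show q.left ≫ Spec.map mk ≫ t = Y.hom ≫ t
      rw [← Over.w q]; simp [T₀])
  have hΦ : ∀ {Y : Over (Spec A)} (q : Y ⟶ T₀) (y : Y ⟶ Red.DS (Spec A) M),
      ∃ z : Y ⟶ Red.DS (Spec A) M',
        (sOf q ≫ g₀) * tr t e₁ i₁ y * (sOf q ≫ g₀)⁻¹ = tr t e₂ i₂ z := fun {Y} q y => by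
    obtain ⟨h', hh'⟩ := h₀ _ (sOf q) (BC.down t (y ≫ e₁.inv.hom.hom))
    refine ⟨BC.up t h' ≫ e₂.hom.hom.hom, ?_⟩
    have : e₂.hom.hom.hom ≫ e₂.inv.hom.hom = 𝟙 _ := congr(($(e₂.hom_inv_id)).hom.hom)
    rw [tr, tr, hh', Category.assoc, this, Category.comp_id, BC.down_up]
  choose Φ hΦ' using fun (Y : Over (Spec A)) (q : Y ⟶ T₀) (y : Y ⟶ Red.DS (Spec A) M) => hΦ q y
  have inj : ∀ {Y : Over (Spec A)} {z z' : Y ⟶ Red.DS (Spec A) M'},
      tr t e₂ i₂ z = tr t e₂ i₂ z' → z = z' := fun {Y z z'} h => by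
    have h1 := BC.down_injective ((cancel_mono i₂).1 h)
    haveI : IsIso e₂.inv.hom.hom := Tori.BaseChange.isIso_hom e₂.symm
    exact (cancel_mono _).1 h1
  haveI he₁ : IsMonHom e₁.inv.hom.hom := e₁.inv.hom.isMonHom_hom
  haveI he₂ : IsMonHom e₂.inv.hom.hom := e₂.inv.hom.isMonHom_hom
  obtain ⟨ψ, hψ, hψΦ⟩ := exists_hom_lift J hJ (fun {Y} q y => Φ Y q y)
    (fun {Y Y'} r q y => inj (by
      rw [← hΦ' Y' (r ≫ q) (r ≫ y)]
      have h1 : ∀ {H' : Over S} [GrpObj H'] {N : Type} [AddCommGroup N]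
          (e : Grp.mk (Red.bc t H') ≅ Grp.mk (Red.DS (Spec A) N)) (i : H' ⟶ G) (z : Y ⟶ Red.DS (Spec A) N),
          tr t e i (r ≫ z) = (Over.map t).map r ≫ tr t e i z := fun e i z => by
        rw [tr, tr, Category.assoc r z, BC.down_comp, Category.assoc]
      have h2 : sOf (r ≫ q) = (Over.map t).map r ≫ sOf q := rfl
      rw [h1, h1, h2, ← hΦ' Y q y, MonObj.comp_mul, MonObj.comp_mul, GrpObj.comp_inv]
      simp only [Category.assoc]))
    (fun {Y} q y y' => inj (by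
      rw [← hΦ' Y q (y * y')]
      have h1 : ∀ {H' : Over S} [GrpObj H'] {N : Type} [AddCommGroup N]
          (e : Grp.mk (Red.bc t H') ≅ Grp.mk (Red.DS (Spec A) N)) (i : H' ⟶ G) [IsMonHom i]
          (z z' : Y ⟶ Red.DS (Spec A) N), tr t e i (z * z') = tr t e i z * tr t e i z' := fun e i _ z z' => by
        haveI : IsMonHom e.inv.hom.hom := e.inv.hom.isMonHom_hom
        rw [tr, tr, tr, MonObj.mul_comp, BC.down_mul, MonObj.mul_comp]
      rw [h1, h1, ← hΦ', ← hΦ']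
      group))
  refine ⟨ψ, hψ, fun Y s hs y => ?_⟩
  let q : Y ⟶ T₀ := Over.homMk s.left (by
    show s.left ≫ Spec.map mk ≫ 𝟙 _ = Y.hom
    rw [Category.comp_id]; exact hs)
  rw [hψΦ Y q y, ← hΦ' Y q y]
  rfl

/-- A lifted conjugating element carries `H₁` into `H₂`. -/
theorem fwd_of_carries (g : Over.mk t ⟶ G) (ψ : Red.DS (Spec A) M ⟶ Red.DS (Spec A) M')
    (h : Carries i₁ t e₁ (ψ ≫ e₂.inv.hom.hom ≫ (Over.pullback t).map i₂) (X := Over.mk t) (𝟙 _)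
      (Category.id_comp _) g) (X' : Over S) (x : X' ⟶ Over.mk t) :
    ∃ (Y : Over (Spec A)) (a : (Over.map t).obj Y ⟶ X') (b : X' ⟶ (Over.map t).obj Y),
      b ≫ a = 𝟙 _ ∧ ∀ (y : Y ⟶ Red.DS (Spec A) M),
        (x ≫ g) * (b ≫ tr t e₁ i₁ y) * (x ≫ g)⁻¹ = b ≫ tr t e₂ i₂ (y ≫ ψ) := by
  let Y : Over (Spec A) := Over.mk x.left
  have hY : x.left ≫ t = X'.hom := Over.w x
  let a : (Over.map t).obj Y ⟶ X' := Over.homMk (𝟙 _) (by
    show 𝟙 _ ≫ X'.hom = x.left ≫ t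
    rw [hY, Category.id_comp])
  let b : X' ⟶ (Over.map t).obj Y := Over.homMk (𝟙 _) (by
    show 𝟙 _ ≫ x.left ≫ t = X'.hom
    rw [hY, Category.id_comp])
  have hba : b ≫ a = 𝟙 _ := Over.OverMorphism.ext (Category.id_comp _)
  refine ⟨Y, a, b, hba, fun y => ?_⟩
  have := congrArg (b ≫ ·) (h Y (a ≫ x) (by
    show (𝟙 _ ≫ x.left) ≫ 𝟙 _ = x.left
    rw [Category.id_comp, Category.comp_id]) y)
  rw [tr_eq_down t e₂ i₂ (y ≫ ψ), Category.assoc y ψ, tr]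
  simpa [MonObj.comp_mul, GrpObj.comp_inv, ← Category.assoc, hba] using this

theorem exists_lift_fwd (hJ : J ^ 2 = ⊥) [IsAffineHom G.hom] [Smooth G.hom] [IsMonHom i₁] [IsMonHom i₂]
    [Mono i₂] (g₀ : Over.mk (Spec.map (CommRingCat.ofHom (Ideal.Quotient.mk J)) ≫ t) ⟶ G)
    (h₀ : Fwd i₁ i₂ g₀) :
    ∃ (g : Over.mk t ⟶ G) (ψ : Red.DS (Spec A) M ⟶ Red.DS (Spec A) M'), IsMonHom ψ ∧
      Spec.map (CommRingCat.ofHom (Ideal.Quotient.mk J)) ≫ g.left = g₀.left ∧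
      Carries i₁ t e₁ (ψ ≫ e₂.inv.hom.hom ≫ (Over.pullback t).map i₂) (X := Over.mk t) (𝟙 _)
        (Category.id_comp _) g ∧
      (∀ (Y : Over (Spec A))
        (s : (Over.map t).obj Y ⟶ Over.mk (Spec.map (CommRingCat.ofHom (Ideal.Quotient.mk J)) ≫ t)),
        s.left ≫ Spec.map (CommRingCat.ofHom (Ideal.Quotient.mk J)) = Y.hom →
        ∀ (y : Y ⟶ Red.DS (Spec A) M),
          (s ≫ g₀) * tr t e₁ i₁ y * (s ≫ g₀)⁻¹ = tr t e₂ i₂ (y ≫ ψ)) ∧ Fwd i₁ i₂ g := by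
  obtain ⟨ψ, hψ, hc⟩ := exists_hom_of_fwd i₁ i₂ J t e₁ e₂ hJ g₀ h₀
  haveI := hψ
  haveI := isMonHom_transport t e₂ i₂
  haveI : IsMonHom (ψ ≫ e₂.inv.hom.hom ≫ (Over.pullback t).map i₂) := inferInstance
  obtain ⟨g, hg, hcar⟩ := exists_lift_conj i₁ J hJ t e₁ (ψ ≫ e₂.inv.hom.hom ≫ (Over.pullback t).map i₂) g₀
    (fun Y s hs y => by
      have := hc Y s hs y
      rwa [tr_eq_down t e₂ i₂, Category.assoc, tr] at this)
  refine ⟨g, ψ, hψ, hg, hcar, hc, fun X' x h => ?_⟩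
  obtain ⟨Y, a, b, hba, hy⟩ := fwd_of_carries i₁ i₂ t e₁ e₂ g ψ hcar X' x
  have h1 : e₁.hom.hom.hom ≫ e₁.inv.hom.hom = 𝟙 _ := congr(($(e₁.hom_inv_id)).hom.hom)
  have h2 := hy (BC.up t (a ≫ h) ≫ e₁.hom.hom.hom)
  rw [tr, tr, Category.assoc (BC.up t (a ≫ h)) e₁.hom.hom.hom e₁.inv.hom.hom, h1, Category.comp_id,
    BC.down_up, ← Category.assoc b (a ≫ h), ← Category.assoc b a h, hba, Category.id_comp] at h2
  exact ⟨_, h2.trans (Category.assoc _ _ _).symm⟩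

end Groth.Agent.Lib.MultSmooth
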