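import Groth.Agent.Lib.MultSmooth.Normalizer
import Groth.Agent.Lib.MultSmooth.Centralizer
import Mathlib.AlgebraicGeometry.Morphisms.FlatMono

/-!
# The centralizer is open and closed in the normalizer
-/

set_option autoImplicit false
universe u

open CategoryTheory MonoidalCategory CartesianMonoidalCategory MonObj GrpObj AlgebraicGeometry
open CategoryTheory.Limits
open Groth.Agent.Lib.RedPts Groth.Agent.H87

namespace Groth.Agent.Lib.MultSmooth

set_option linter.style.haveILetI false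

variable {S : Scheme.{u}} {H G Z N : Over S}

theorem exists_iso_of_same_points {C : Over S} (c : C ⟶ G) [Mono c] (j : Z ⟶ G) [Mono j]
    (h : ∀ (X : Over S) (g : X ⟶ G), (∃ z, z ≫ c = g) ↔ ∃ z, z ≫ j = g) :
    ∃ e : Z ≅ C, e.hom ≫ c = j := by
  obtain ⟨a, ha⟩ := (h _ j).2 ⟨𝟙 _, Category.id_comp _⟩
  obtain ⟨b, hb⟩ := (h _ c).1 ⟨𝟙 _, Category.id_comp _⟩
  exact ⟨⟨a, b, (cancel_mono j).1 (by rw [Category.assoc, hb, ha, Category.id_comp]),
    (cancel_mono c).1 (by rw [Category.assoc, ha, hb, Category.id_comp])⟩, ha⟩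

variable [GrpObj H] [GrpObj G]

/-- A point of the normalizer centralizing modulo a square-zero ideal centralizes. -/
theorem centralizes_of_mod {A : CommRingCat.{u}} (J : Ideal A) (hJ : J ^ 2 = ⊥) (t : Spec A ⟶ S)
    {M : Type} [AddCommGroup M] (e : Grp.mk (Red.bc t H) ≅ Grp.mk (Red.DS (Spec A) M))
    (i : H ⟶ G) [IsMonHom i] [Mono i] (g : Over.mk t ⟶ G) (hg : Fwd i i g)
    (g₀ : Over.mk (Spec.map (CommRingCat.ofHom (Ideal.Quotient.mk J)) ≫ t) ⟶ G)
    (hg₀ : Spec.map (CommRingCat.ofHom (Ideal.Quotient.mk J)) ≫ g.left = g₀.left)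
    (h₀ : ∀ (X' : Over S) (x : X' ⟶ _) (h : X' ⟶ H), (x ≫ g₀) * (h ≫ i) = (h ≫ i) * (x ≫ g₀))
    (X' : Over S) (x : X' ⟶ Over.mk t) (h : X' ⟶ H) : (x ≫ g) * (h ≫ i) = (h ≫ i) * (x ≫ g) := by
  let pr : ∀ Y : Over (Spec A), (Over.map t).obj Y ⟶ Over.mk t := fun Y => Over.homMk Y.hom rfl
  have hpr : ∀ {Y Y' : Over (Spec A)} (r : Y' ⟶ Y), (Over.map t).map r ≫ pr Y = pr Y' := fun r =>
    Over.OverMorphism.ext (Over.w r)
  have inj : ∀ {Y : Over (Spec A)} {z z' : Y ⟶ Red.DS (Spec A) M},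
      tr t e i z = tr t e i z' → z = z' := fun {Y z z'} hz => by
    haveI : IsIso e.inv.hom.hom := Tori.BaseChange.isIso_hom e.symm
    exact (cancel_mono _).1 (BC.down_injective ((cancel_mono i).1 hz))
  have hcomp : ∀ {Y Y' : Over (Spec A)} (r : Y' ⟶ Y) (z : Y ⟶ Red.DS (Spec A) M),
      tr t e i (r ≫ z) = (Over.map t).map r ≫ tr t e i z := fun r z => by
    rw [tr, tr, Category.assoc r z, BC.down_comp, Category.assoc]
  have hmul : ∀ {Y : Over (Spec A)} (z z' : Y ⟶ Red.DS (Spec A) M),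
      tr t e i (z * z') = tr t e i z * tr t e i z' := fun z z' => by
    haveI : IsMonHom e.inv.hom.hom := e.inv.hom.isMonHom_hom
    rw [tr, tr, tr, MonObj.mul_comp, BC.down_mul, MonObj.mul_comp]
  obtain ⟨z, hz⟩ := hg _ (pr (Red.DS (Spec A) M)) (BC.down t (𝟙 _ ≫ e.inv.hom.hom))
  let ψ : Red.DS (Spec A) M ⟶ Red.DS (Spec A) M := BC.up t z ≫ e.hom.hom.hom
  have he : e.hom.hom.hom ≫ e.inv.hom.hom = 𝟙 _ := congr(($(e.hom_inv_id)).hom.hom)
  have hψ : ∀ {Y : Over (Spec A)} (y : Y ⟶ Red.DS (Spec A) M),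
      (pr Y ≫ g) * tr t e i y * (pr Y ≫ g)⁻¹ = tr t e i (y ≫ ψ) := fun {Y} y => by
    have h1 := congrArg ((Over.map t).map y ≫ ·) hz
    simp only [MonObj.comp_mul, GrpObj.comp_inv, reassoc_of% hpr y] at h1
    rw [hcomp, show tr t e i ψ = z ≫ i from ?_]
    · rw [← h1, tr, BC.down_comp]
      simp [← BC.down_comp]
      rw [BC.down_comp, Category.assoc]
    · rw [tr, Category.assoc, he, Category.comp_id, BC.down_up]
  haveI : IsMonHom ψ := HomDS.isMonHom_of_points ψ fun X a b => inj (by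
    rw [← hψ, hmul, hmul, ← hψ, ← hψ]; group)
  have hid : ψ = 𝟙 _ := hom_eq_of_eq J hJ ψ (𝟙 _) fun Y q y => inj (by
    rw [← hψ, Category.comp_id]
    let s : (Over.map t).obj Y ⟶ Over.mk (Spec.map (CommRingCat.ofHom (Ideal.Quotient.mk J)) ≫ t) :=
      Over.homMk q.left (by
        show q.left ≫ Spec.map _ ≫ t = Y.hom ≫ t
        rw [← Over.w q]; simp)
    have hs : pr Y ≫ g = s ≫ g₀ := by
      apply Over.OverMorphism.ext
      show Y.hom ≫ g.left = q.left ≫ g₀.left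
      rw [← hg₀, ← Over.w q]; simp
    rw [hs, tr, h₀ _ s _, mul_inv_cancel_right])
  let Y : Over (Spec A) := Over.mk x.left
  have hY : x.left ≫ t = X'.hom := Over.w x
  let a : (Over.map t).obj Y ⟶ X' := Over.homMk (𝟙 _) (by
    show 𝟙 _ ≫ X'.hom = x.left ≫ t
    rw [hY, Category.id_comp])
  let b : X' ⟶ (Over.map t).obj Y := Over.homMk (𝟙 _) (by
    show 𝟙 _ ≫ x.left ≫ t = X'.hom
    rw [hY, Category.id_comp])
  have hba : b ≫ a = 𝟙 _ := Over.OverMorphism.ext (Category.id_comp _)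
  have hbx : b ≫ pr Y = x := Over.OverMorphism.ext (Category.id_comp _)
  have h2 := congrArg (b ≫ ·) (hψ (BC.up t (a ≫ h) ≫ e.hom.hom.hom))
  rw [hid, Category.comp_id] at h2
  simp only [tr, Category.assoc (BC.up t (a ≫ h)) e.hom.hom.hom e.inv.hom.hom, he, Category.comp_id,
    BC.down_up, MonObj.comp_mul, GrpObj.comp_inv, ← Category.assoc, hba, Category.id_comp, hbx] at h2
  exact mul_inv_eq_iff_eq_mul.1 h2

/-- **The centralizer is open and closed in the normalizer.** -/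
theorem exists_clopen (hH : SGA3x.IsMultTypeFT H) [Smooth G.hom] [IsAffineHom G.hom] (i : H ⟶ G)
    [IsMonHom i] [Mono i] (j : Z ⟶ G) [GrpObj Z] (k : N ⟶ G) [GrpObj N]
    (hj : Red.IsCentralizerOf i j) (hk : Red.IsNormalizerOf i k) :
    ∃ f : Z ⟶ N, f ≫ k = j ∧ IsOpenImmersion f.left ∧ IsClosedImmersion f.left := by
  obtain ⟨-, hjm, hj'⟩ := hj
  obtain ⟨-, hkm, hk'⟩ := hk
  haveI := hjm
  haveI := hkm
  obtain ⟨C, _, c, ⟨-, hcm, hc'⟩, hcc, hCs⟩ := exists_centralizer_smooth hH i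
  obtain ⟨D, _, d, ⟨-, hdm, hd'⟩, hdc, hDs⟩ := exists_normalizer_smooth hH i
  haveI := hcm
  haveI := hdm
  obtain ⟨eC, heC⟩ := exists_iso_of_same_points c j fun X g => (hc' X g).trans (hj' X g).symm
  obtain ⟨eD, heD⟩ := exists_iso_of_same_points d k fun X g => (hd' X g).trans (hk' X g).symm
  haveI : IsIso eC.hom.left := inferInstanceAs (IsIso ((Over.forget S).map eC.hom))
  haveI : IsIso eD.hom.left := inferInstanceAs (IsIso ((Over.forget S).map eD.hom))
  haveI := hcc; haveI := hdc; haveI := hCs; haveI := hDs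
  haveI : IsClosedImmersion j.left := by rw [← heC, Over.comp_left]; infer_instance
  haveI : IsClosedImmersion k.left := by rw [← heD, Over.comp_left]; infer_instance
  haveI : Smooth Z.hom := by rw [← Over.w eC.hom]; infer_instance
  haveI : Smooth N.hom := by rw [← Over.w eD.hom]; infer_instance
  obtain ⟨f, hf⟩ : ∃ f : Z ⟶ N, f ≫ k = j := (hk' _ j).2 fun X' x h => by
    have hc := (hj' _ j).1 ⟨𝟙 _, Category.id_comp _⟩ X' x h
    exact ⟨⟨h, mul_inv_eq_iff_eq_mul.2 hc⟩, ⟨h, by rw [_root_.mul_assoc, ← hc, inv_mul_cancel_left]⟩⟩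
  have hfj : f.left ≫ k.left = j.left := congrArg CommaMorphism.left hf
  haveI : IsClosedImmersion f.left :=
    haveI : IsClosedImmersion (f.left ≫ k.left) := by rw [hfj]; infer_instance
    IsClosedImmersion.of_comp f.left k.left
  haveI : LocallyOfFinitePresentation f.left :=
    AlgSpMor.Cancel.locallyOfFinitePresentation_of_comp (g := N.hom)
      (by rw [Over.w f]; infer_instance) inferInstance
  obtain ⟨S', p, hp, hps, hcov, hloc⟩ := hH
  haveI : Smooth f.left := by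
    refine smooth_of_locally f.left (pullback.fst N.hom p) (Tori.Basic.isQCCover_pullback_snd hcov N.hom)
      fun s' => ?_
    obtain ⟨U, hU, M, iM, -, ⟨e₀⟩⟩ := hloc (pullback.snd N.hom p s')
    refine ⟨pullback.snd N.hom p ⁻¹ᵁ U, hU, fun O hO _ A J hJ t₀ c₀ hc₀ => ?_⟩
    let n : Spec A ⟶ N.left := t₀ ≫ O.ι ≫ pullback.fst N.hom p
    let t : Spec A ⟶ S := n ≫ N.hom
    let r : Spec A ⟶ (U : Scheme.{u}) := t₀ ≫ (pullback N.hom p).homOfLE hO ≫ pullback.snd N.hom p ∣_ U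
    let e := Tori.BaseChange.bcCongr (show t = r ≫ U.ι ≫ p by
      simp [t, n, r, pullback.condition]) H ≪≫ Charts.resChart e₀ r
    let g : Over.mk t ⟶ G := (Over.homMk n rfl : Over.mk t ⟶ N) ≫ k
    let g₀ : Over.mk (Spec.map (CommRingCat.ofHom (Ideal.Quotient.mk J)) ≫ t) ⟶ G :=
      (Over.homMk c₀ (by
        rw [← Over.w f, reassoc_of% hc₀]
        simp [t, n]) : Over.mk (Spec.map (CommRingCat.ofHom (Ideal.Quotient.mk J)) ≫ t) ⟶ Z) ≫ j
    obtain ⟨z, hz⟩ := (hj' _ g).2 (centralizes_of_mod J hJ t e i g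
      (fun X' x h => ((hk' _ g).1 ⟨_, rfl⟩ X' x h).1) g₀ (by
        show Spec.map _ ≫ n ≫ k.left = c₀ ≫ j.left
        rw [← hfj, reassoc_of% hc₀]
        simp [n]) ((hj' _ g₀).1 ⟨_, rfl⟩))
    have hzl : z.left ≫ j.left = n ≫ k.left := congrArg CommaMorphism.left hz
    refine ⟨z.left, (cancel_mono k.left).1 (by rw [Category.assoc, hfj, hzl]), ?_⟩
    rw [← cancel_mono j.left, Category.assoc, hzl, ← hfj, reassoc_of% hc₀]
    simp [n]
  exact ⟨f, hf, IsOpenImmersion.of_flat_of_mono f.left, inferInstance⟩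

end Groth.Agent.Lib.MultSmooth
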