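import Groth.Agent.Lib.MultSmooth.Reynolds

/-!
# Homomorphisms from `D(M)` congruent modulo a square-zero ideal are conjugate
-/

set_option autoImplicit false
universe u

open CategoryTheory MonoidalCategory CartesianMonoidalCategory MonObj GrpObj AlgebraicGeometry
open Groth.Agent.H87 Groth.Agent.H87.HomDS

namespace Groth.Agent.Lib.MultSmooth

set_option linter.style.haveILetI false

variable {A : CommRingCat.{u}} {G : Over (Spec A)} [GrpObj G] [IsAffine G.left]

/-- A morphism of test objects. -/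
noncomputable def th {D D' : CommRingCat.{u}} {φ : A ⟶ D} {φ' : A ⟶ D'} (ψ : D ⟶ D')
    (h : φ ≫ ψ = φ') : test (𝟙 (Spec A)) φ' ⟶ test (𝟙 (Spec A)) φ :=
  Over.homMk (Spec.map ψ) (by subst h; simp [Spec.map_comp])

/-- The coordinates of a point of an affine group. -/
noncomputable def co {D : CommRingCat.{u}} {φ : A ⟶ D} (x : test (𝟙 (Spec A)) φ ⟶ G) :
    Γ(G.left, ⊤) ⟶ D :=
  Spec.preimage (x.left ≫ G.left.isoSpec.hom)

theorem co_comp {D D' : CommRingCat.{u}} {φ : A ⟶ D} {φ' : A ⟶ D'} (ψ : D ⟶ D') (h : φ ≫ ψ = φ')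
    (x : test (𝟙 (Spec A)) φ ⟶ G) : co (th ψ h ≫ x) = co x ≫ ψ := by
  apply Spec.map_injective
  simp [co, th]

theorem co_injective {D : CommRingCat.{u}} {φ : A ⟶ D} {x y : test (𝟙 (Spec A)) φ ⟶ G}
    (h : co x = co y) : x = y := by
  have := congrArg Spec.map h
  simp only [co, Spec.map_preimage, cancel_mono] at this
  exact Over.OverMorphism.ext this

theorem th_cancel {D D' : CommRingCat.{u}} {φ : A ⟶ D} {φ' : A ⟶ D'} {ψ : D ⟶ D'} (h : φ ≫ ψ = φ')
    (hψ : Function.Injective ψ.hom) {x y : test (𝟙 (Spec A)) φ ⟶ G} (e : th ψ h ≫ x = th ψ h ≫ y) :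
    x = y := by
  refine co_injective (CommRingCat.hom_ext (RingHom.ext fun f => hψ ?_))
  have := congrArg co e
  rw [co_comp, co_comp] at this
  exact congr((CommRingCat.Hom.hom $this) f)

variable (J : Ideal A) (hJ : J ^ 2 = ⊥) {M : Type} [AddCommGroup M]

local notation "N" => Multiplicative M

include hJ in
/-- **Two homomorphisms `D(M) ⟶ G` congruent modulo a square-zero ideal are conjugate by a point
congruent to the unit.** -/
theorem exists_conj (v w : Red.DS (Spec A) M ⟶ G) [IsMonHom v] [IsMonHom w]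
    (heq : ∀ (Y : Over (Spec A))
      (_ : Y ⟶ test (𝟙 (Spec A)) (CommRingCat.ofHom (Ideal.Quotient.mk J) : A ⟶ CommRingCat.of (A ⧸ J)))
      (x : Y ⟶ Red.DS (Spec A) M), x ≫ v = x ≫ w) :
    ∃ k : test (𝟙 (Spec A)) (𝟙 A) ⟶ G,
      th (φ := 𝟙 A) (CommRingCat.ofHom (Ideal.Quotient.mk J) : A ⟶ CommRingCat.of (A ⧸ J))
        (Category.id_comp _) ≫ k = 1 ∧
      ∀ (Y : Over (Spec A)) (p : Y ⟶ test (𝟙 (Spec A)) (𝟙 A)) (x : Y ⟶ Red.DS (Spec A) M),
        (p ≫ k) * (x ≫ v) * (p ≫ k)⁻¹ = x ≫ w := by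
  let B : CommRingCat.{u} := ring (A := A) M
  let B₂ : CommRingCat.{u} := CommRingCat.of (MonoidAlgebra A (N × N))
  let inc : A ⟶ B := CommRingCat.ofHom MonoidAlgebra.singleOneRingHom
  let inc₂ : A ⟶ B₂ := CommRingCat.ofHom MonoidAlgebra.singleOneRingHom
  let i₁ : B ⟶ B₂ := CommRingCat.ofHom (ev2 A N (MonoidHom.inl N N))
  let i₂ : B ⟶ B₂ := CommRingCat.ofHom (ev2 A N (MonoidHom.inr N N))
  let dg : B ⟶ B₂ := CommRingCat.ofHom (ev2 A N (MonoidHom.prod (MonoidHom.id N) (MonoidHom.id N)))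
  have hinc : ∀ f : N →* N × N, inc ≫ CommRingCat.ofHom (ev2 A N f) = inc₂ := fun f => by
    refine CommRingCat.hom_ext (RingHom.ext fun a => ?_)
    show ev2 A N f (MonoidAlgebra.single 1 a) = MonoidAlgebra.single 1 a
    rw [ev2_single, map_one]
  obtain ⟨r₁, r₂, r, hr, hr₁, hr₂, hr'⟩ := univ_mul (𝟙 (Spec A)) M
  have er₁ : r₁ = th i₁ (hinc _) := Over.OverMorphism.ext hr₁
  have er₂ : r₂ = th i₂ (hinc _) := Over.OverMorphism.ext hr₂
  have er : r = th dg (hinc _) := Over.OverMorphism.ext hr'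
  subst er₁ er₂ er
  let uv := univPt (𝟙 (Spec A)) M ≫ v
  let uw := univPt (𝟙 (Spec A)) M ≫ w
  let c : test (𝟙 (Spec A)) inc ⟶ G := uw * uv⁻¹
  -- `c` is congruent to the unit
  let mkB : B ⟶ CommRingCat.of (B ⧸ JB J N) := CommRingCat.ofHom (Ideal.Quotient.mk (JB J N))
  let mkA : A ⟶ CommRingCat.of (A ⧸ J) := CommRingCat.ofHom (Ideal.Quotient.mk J)
  let ι₀ : CommRingCat.of (A ⧸ J) ⟶ CommRingCat.of (B ⧸ JB J N) :=
    CommRingCat.ofHom (Ideal.Quotient.lift J (inc ≫ mkB).hom fun a ha =>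
      Ideal.Quotient.eq_zero_iff_mem.mpr (Ideal.mem_map_of_mem _ ha))
  let e := co (1 : test (𝟙 (Spec A)) (𝟙 A) ⟶ G)
  have hc1 : th mkB rfl ≫ c = 1 := by
    have := heq _ (th ι₀ (by ext a; rfl)) (th mkB rfl ≫ univPt (𝟙 (Spec A)) M)
    show th mkB rfl ≫ (uw * uv⁻¹) = 1
    rw [MonObj.comp_mul, GrpObj.comp_inv, mul_inv_eq_one]
    simpa only [uw, uv, Category.assoc] using this.symm
  have hc2 : ∀ f, (co c).hom f - inc.hom (e.hom f) ∈ JB J N := fun f => by
    rw [← Ideal.Quotient.eq]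
    have h1 : co c ≫ mkB = e ≫ inc ≫ mkB := by
      rw [← co_comp mkB rfl c, hc1]
      rw [← co_comp (φ := 𝟙 A) (inc ≫ mkB) (Category.id_comp _) 1, MonObj.comp_one]
    exact congr((CommRingCat.Hom.hom $h1) f)
  -- the thickening
  let R' : CommRingCat.{u} := CommRingCat.of (thick J N)
  let sub : R' ⟶ B₂ := CommRingCat.ofHom (thick J N).subtype
  let j₁ : B ⟶ R' := CommRingCat.ofHom ((ev2 A N (MonoidHom.inl N N)).codRestrict (thick J N)
    fun b => (mem_thick J).2 ⟨b, by rw [sub_self]; exact Ideal.zero_mem _⟩)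
  let φR : A ⟶ R' := inc ≫ j₁
  let π := th (φ := φR) (φ' := inc₂) sub (hinc (MonoidHom.inl N N))
  have hfac : ∀ f : N →* N × N, ∀ z, ev2 A N f ((co c).hom z) ∈ thick J N := fun f z =>
    (mem_thick J).2 ⟨inc.hom (e.hom z), by
      have h1 : ev2 A N (MonoidHom.inl N N) (inc.hom (e.hom z)) = ev2 A N f (inc.hom (e.hom z)) :=
        (congr((CommRingCat.Hom.hom $(hinc _)) (e.hom z))).trans
          (congr((CommRingCat.Hom.hom $(hinc f)) (e.hom z))).symm
      rw [h1, ← map_sub]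
      exact ev2_mem J f (hc2 z)⟩
  have hd : ∀ (f : N →* N × N), ∃ d : test (𝟙 (Spec A)) φR ⟶ G,
      π ≫ d = th (CommRingCat.ofHom (ev2 A N f)) (hinc f) ≫ c ∧
      ∀ z, ((co d).hom z : MonoidAlgebra A (N × N)) = ev2 A N f ((co c).hom z) := fun f => by
    let q : Γ(G.left, ⊤) ⟶ R' := CommRingCat.ofHom
      (((ev2 A N f).comp (co c).hom).codRestrict (thick J N) (hfac f))
    have hw : q ≫ sub = co c ≫ CommRingCat.ofHom (ev2 A N f) := rfl
    let str : A ⟶ Γ(G.left, ⊤) := (Scheme.ΓSpecIso A).inv ≫ G.hom.appTop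
    have hG : G.hom = G.left.isoSpec.hom ≫ Spec.map str := by
      simp [str, Spec.map_comp, Scheme.isoSpec_hom, ← Scheme.toSpecΓ_naturality_assoc]
    have hcstr : str ≫ co c = inc := by
      apply Spec.map_injective
      rw [Spec.map_comp]
      show _ = (test (𝟙 (Spec A)) inc).hom
      rw [← Over.w c]
      simp [co, str, Scheme.isoSpec_hom, Spec.map_comp, ← Scheme.toSpecΓ_naturality_assoc]
    have hq : str ≫ q = φR := by
      refine CommRingCat.hom_ext (RingHom.ext fun a => Subtype.ext ?_)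
      show ev2 A N f ((str ≫ co c).hom a) = ev2 A N (MonoidHom.inl N N) (inc.hom a)
      rw [hcstr]
      exact (congr((CommRingCat.Hom.hom $(hinc f)) a)).trans
        (congr((CommRingCat.Hom.hom $(hinc (MonoidHom.inl N N))) a)).symm
    let d : test (𝟙 (Spec A)) φR ⟶ G := Over.homMk (Spec.map q ≫ G.left.isoSpec.inv) (by
      show _ = Spec.map φR ≫ 𝟙 _
      rw [← hq]
      rw [Category.assoc, hG, Iso.inv_hom_id_assoc, ← Spec.map_comp, Category.comp_id])
    have hd : co d = q := by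
      apply Spec.map_injective
      simp [co, d]
    refine ⟨d, co_injective ?_, fun z => by rw [hd]; rfl⟩
    rw [co_comp, co_comp, hd, hw]
  obtain ⟨d₂, hd₂, hd₂'⟩ := hd (MonoidHom.inr N N)
  obtain ⟨d, hd₃, hd₃'⟩ := hd (MonoidHom.prod (MonoidHom.id N) (MonoidHom.id N))
  -- the integral is multiplicative on the thickening
  let σr : R' ⟶ B := CommRingCat.ofHom
    { toFun := fun z => integral (z : MonoidAlgebra A (N × N))
      map_one' := integral_one
      map_mul' := fun z z' => integral_mul J hJ z.2 z'.2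
      map_zero' := map_zero _
      map_add' := fun z z' => map_add _ _ _ }
  have hσj : j₁ ≫ σr = 𝟙 B := by
    refine CommRingCat.hom_ext (RingHom.ext fun b => ?_)
    show integral (ev2 A N (MonoidHom.inl N N) b) = b
    simpa [integral_one] using integral_inl_mul b (1 : MonoidAlgebra A (N × N))
  let σ := th (φ := φR) (φ' := inc) σr (by
    show (inc ≫ j₁) ≫ σr = inc
    rw [Category.assoc, hσj, Category.comp_id])
  let ρ := th (φ := inc) (φ' := φR) j₁ rfl
  have hπρ : π ≫ ρ = th i₁ (hinc _) := Over.OverMorphism.ext (by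
    show Spec.map sub ≫ Spec.map j₁ = Spec.map i₁
    rw [← Spec.map_comp]; rfl)
  have hσρ : σ ≫ ρ = 𝟙 _ := Over.OverMorphism.ext (by
    show Spec.map σr ≫ Spec.map j₁ = 𝟙 _
    rw [← Spec.map_comp, hσj, Spec.map_id])
  -- cocycle identity
  have hu : ∀ (u : Red.DS (Spec A) M ⟶ G) [IsMonHom u],
      th dg (hinc _) ≫ univPt (𝟙 (Spec A)) M ≫ u =
        (th i₁ (hinc _) ≫ univPt (𝟙 (Spec A)) M ≫ u) * (th i₂ (hinc _) ≫ univPt (𝟙 (Spec A)) M ≫ u) := by
    intro u _
    rw [← Category.assoc, hr, MonObj.mul_comp, Category.assoc, Category.assoc]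
  have hcocycle : th dg (hinc _) ≫ c = (th i₁ (hinc _) ≫ c) *
      ((th i₁ (hinc _) ≫ uv) * (th i₂ (hinc _) ≫ c) * (th i₁ (hinc _) ≫ uv)⁻¹) := by
    simp only [c, MonObj.comp_mul, GrpObj.comp_inv, uv, uw, hu]
    group
  have hfix : d = (ρ ≫ c) * ((ρ ≫ uv) * d₂ * (ρ ≫ uv)⁻¹) := by
    refine th_cancel (ψ := sub) (hinc (MonoidHom.inl N N)) Subtype.val_injective ?_
    show π ≫ d = π ≫ _
    simp only [MonObj.comp_mul, GrpObj.comp_inv, ← Category.assoc, hπρ]
    rw [hd₃, hd₂]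
    exact hcocycle
  -- the conjugating point
  let aug : B ⟶ A := CommRingCat.ofHom (MonoidAlgebra.liftNCRingHom (RingHom.id A) (1 : N →* A)
    (fun _ _ => Commute.all _ _))
  have haug : inc ≫ aug = 𝟙 A := by
    refine CommRingCat.hom_ext (RingHom.ext fun a => ?_)
    show MonoidAlgebra.liftNCRingHom (RingHom.id A) (1 : N →* A) (fun _ _ => Commute.all _ _)
      (MonoidAlgebra.single 1 a) = a
    simp [MonoidAlgebra.liftNCRingHom_single]
  let k : test (𝟙 (Spec A)) (𝟙 A) ⟶ G := th (φ := inc) (φ' := 𝟙 A) aug haug ≫ σ ≫ d₂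
  let q : test (𝟙 (Spec A)) inc ⟶ test (𝟙 (Spec A)) (𝟙 A) := th inc (Category.id_comp _)
  have hsame : σ ≫ d = σ ≫ d₂ := by
    refine co_injective (CommRingCat.hom_ext (RingHom.ext fun z => ?_))
    simp only [σ, co_comp]
    show integral ((co d).hom z : MonoidAlgebra A (N × N)) = integral ((co d₂).hom z : MonoidAlgebra A (N × N))
    rw [hd₃', hd₂', integral_diag, integral_inr]
  have hk : ∀ z, (co k).hom z = ((co c).hom z).coeff 1 := fun z => by
    simp only [k, σ, co_comp]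
    show aug.hom (integral ((co d₂).hom z : MonoidAlgebra A (N × N))) = _
    rw [hd₂', integral_inr]
    exact congr((CommRingCat.Hom.hom $haug) _)
  have hqk : q ≫ k = σ ≫ d₂ := by
    refine co_injective (CommRingCat.hom_ext (RingHom.ext fun z => ?_))
    simp only [q, σ, co_comp]
    show inc.hom ((co k).hom z) = integral ((co d₂).hom z : MonoidAlgebra A (N × N))
    rw [hk, hd₂', integral_inr]
    rfl
  refine ⟨k, co_injective (CommRingCat.hom_ext (RingHom.ext fun z => ?_)), fun Y p x => ?_⟩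
  · have hone : co (1 : test (𝟙 (Spec A)) mkA ⟶ G) = e ≫ mkA := by
      rw [← MonObj.comp_one (th (φ := 𝟙 A) mkA (Category.id_comp _)), co_comp]
    rw [hone, co_comp]
    show Ideal.Quotient.mk J ((co k).hom z) = Ideal.Quotient.mk J (e.hom z)
    rw [Ideal.Quotient.eq, hk]
    have := coeff_mem J (hc2 z) (1 : N)
    have e1 : (inc.hom (e.hom z) : MonoidAlgebra A N).coeff 1 = e.hom z := by
      show (MonoidAlgebra.single (1 : N) (e.hom z)).coeff 1 = _
      rw [MonoidAlgebra.coeff_single, Finsupp.single_eq_same]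
    erw [MonoidAlgebra.coeff_sub, Finsupp.sub_apply, e1] at this
    exact this
  · have h2 := congrArg (σ ≫ ·) hfix
    simp only [MonObj.comp_mul, GrpObj.comp_inv, hsame, reassoc_of% hσρ, ← hqk] at h2
    have huniv : (q ≫ k) * uv * (q ≫ k)⁻¹ = uw := by
      calc (q ≫ k) * uv * (q ≫ k)⁻¹ = c * (uv * (q ≫ k) * uv⁻¹) * uv * (q ≫ k)⁻¹ := by rw [← h2]
        _ = uw := by simp only [c]; group
    obtain ⟨s, hs⟩ := exists_fac (𝟙 (Spec A)) M Y.hom (Category.comp_id _) x
    have hp : p = s ≫ q := by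
      apply Over.OverMorphism.ext
      have h1 := Over.w p
      have h2' := Over.w (s ≫ q)
      simp [test] at h1 h2' ⊢
      rw [h1, h2']
    rw [← hs, hp]
    simpa only [uv, uw, MonObj.comp_mul, GrpObj.comp_inv, Category.assoc] using congrArg (s ≫ ·) huniv

end Groth.Agent.Lib.MultSmooth
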