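import Groth.Agent.Lib.MultSmooth.FixSmooth
import Groth.Agent.Lib.FreeRes.Transporter
import Groth.Agent.Lib.FreeRes.MultType
import Groth.Agent.Lib.AlgSpMor.Cancel

/-!
# The fixed points of an action of a group of multiplicative type
-/

set_option autoImplicit false
universe u

open CategoryTheory MonoidalCategory CartesianMonoidalCategory MonObj GrpObj AlgebraicGeometry

namespace Groth.Agent.Lib.MultSmooth

set_option linter.style.haveILetI false

variable {S : Scheme.{u}} {G X : Over S} [GrpObj G]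

/-- The fixed points form a closed subscheme of finite presentation. -/
theorem exists_fixedPoints (hG : SGA3x.IsMultTypeFT G) [LocallyOfFiniteType X.hom] [IsSeparated X.hom]
    (a : AlgGrp.Action G X) :
    ∃ (C : Over S) (c : C ⟶ X), IsClosedImmersion c.left ∧ LocallyOfFinitePresentation c.left ∧
      ∀ (T : Over S) (x : T ⟶ X), (∃ z : T ⟶ C, z ≫ c = x) ↔
        ∀ (T' : Over S) (t : T' ⟶ T) (g : T' ⟶ G), lift g (t ≫ x) ≫ a.act = t ≫ x := by
  haveI := Groth.Agent.H87.MT.isAffineHom hG
  let Δ : X ⟶ X ⊗ X := lift (𝟙 X) (𝟙 X)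
  have hΔ : Δ.left = Limits.pullback.diagonal X.hom := Limits.pullback.hom_ext
    ((congrArg CommaMorphism.left (lift_fst (𝟙 X) (𝟙 X))).trans
      (Limits.pullback.diagonal_fst X.hom).symm)
    ((congrArg CommaMorphism.left (lift_snd (𝟙 X) (𝟙 X))).trans
      (Limits.pullback.diagonal_snd X.hom).symm)
  haveI : IsClosedImmersion Δ.left := by rw [hΔ]; infer_instance
  haveI : LocallyOfFinitePresentation Δ.left := by
    rw [hΔ]
    exact AlgSpMor.Cancel.locallyOfFinitePresentation_of_comp (g := Limits.pullback.fst X.hom X.hom)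
      (by rw [Limits.pullback.diagonal_fst]; infer_instance) inferInstance
  obtain ⟨C, c, hc, hC, hfp⟩ := FreeRes.exists_closed_factor
    (FreeRes.isEssentiallyFree_of_isMultTypeFT hG) (lift ((β_ X G).hom ≫ a.act) (fst X G)) Δ
  refine ⟨C, c, hc, hfp inferInstance inferInstance, fun T x => (hC x).trans ?_⟩
  rw [FreeRes.forall_pair_factor_iff]
  refine forall_congr' fun T' => forall_congr' fun t => forall_congr' fun g => ?_
  simp only [Δ, comp_lift, lift_fst, Category.comp_id, ← Category.assoc,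
    CartesianMonoidalCategory.lift_braiding_hom]
  constructor
  · rintro ⟨l, hl⟩
    have h1 := congrArg (· ≫ fst X X) hl
    have h2 := congrArg (· ≫ snd X X) hl
    simp at h1 h2
    exact h1.trans h2.symm
  · intro h
    exact ⟨t ≫ x, by rw [h]⟩

/-- **The closed subscheme representing the fixed points is smooth.** -/
theorem smooth_fixedPoints' (hG : SGA3x.IsMultTypeFT G) [Smooth X.hom] [IsSeparated X.hom]
    (a : AlgGrp.Action G X) {F : Scheme.{u}} (f : F ⟶ X.left) [IsClosedImmersion f]
    (hF : ∀ (T : Over S) (x : T ⟶ X), (∃ y : T.left ⟶ F, y ≫ f = x.left) ↔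
        ∀ (T' : Over S) (t : T' ⟶ T) (g : T' ⟶ G), lift g (t ≫ x) ≫ a.act = t ≫ x) :
    Smooth (f ≫ X.hom) := by
  obtain ⟨C, c, hc, hfp, hC⟩ := exists_fixedPoints hG a
  obtain ⟨y, hy⟩ := (hF C c).2 ((hC C c).1 ⟨𝟙 _, Category.id_comp _⟩)
  let fS : Over.mk (f ≫ X.hom) ⟶ X := Over.homMk f
  obtain ⟨z, hz⟩ := (hC _ fS).2 ((hF _ fS).1 ⟨𝟙 _, Category.id_comp _⟩)
  have hzf : z.left ≫ c.left = f := congrArg CommaMorphism.left hz
  haveI : IsIso z.left := ⟨y, by rw [← cancel_mono f, Category.assoc, hy, hzf, Category.id_comp],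
    by rw [← cancel_mono c.left, Category.assoc, hzf, hy, Category.id_comp]⟩
  haveI : LocallyOfFinitePresentation (f ≫ X.hom) := by
    rw [← hzf]
    infer_instance
  exact smooth_fixedPoints hG a f hF

end Groth.Agent.Lib.MultSmooth
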