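import Groth.Agent.Lib.MultSmooth.Reynolds

/-!
# Invariant lifts of fixed points of a diagonalisable group

Averaging with the invariant integral: a point of a scheme with an action of `D(M)` which is fixed
modulo a square-zero ideal and lies in an affine open is congruent to a fixed point.
-/

set_option autoImplicit false
universe u

open CategoryTheory MonoidalCategory CartesianMonoidalCategory MonObj GrpObj AlgebraicGeometry
open Groth.Agent.H87 Groth.Agent.H87.HomDS PrimeSpectrum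

namespace Groth.Agent.Lib.MultSmooth

set_option linter.style.haveILetI false

variable {A : CommRingCat.{u}}

/-- A morphism of test objects. -/
noncomputable def tm {D D' : CommRingCat.{u}} {φ : A ⟶ D} {φ' : A ⟶ D'} (ψ : D ⟶ D')
    (h : φ ≫ ψ = φ') : test (𝟙 (Spec A)) φ' ⟶ test (𝟙 (Spec A)) φ :=
  Over.homMk (Spec.map ψ) (by subst h; simp [Spec.map_comp])

theorem tm_left {D D' : CommRingCat.{u}} {φ : A ⟶ D} {φ' : A ⟶ D'} (ψ : D ⟶ D')
    (h : φ ≫ ψ = φ') : (tm ψ h).left = Spec.map ψ := rfl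

variable (J : Ideal A) (hJ : J ^ 2 = ⊥) {M : Type} [AddCommGroup M]

local notation "N" => Multiplicative M

theorem le_nilradical (hJ : J ^ 2 = ⊥) : JB J N ≤ nilradical (MonoidAlgebra A N) := fun x hx => by
  rw [mem_nilradical]
  exact ⟨2, by rw [pow_two]; exact mul_eq_zero_of_mem J hJ hx hx⟩

theorem surjective_specMap {D D' : CommRingCat.{u}} (f : D ⟶ D') (hf : Function.Surjective f.hom)
    (hk : RingHom.ker f.hom ≤ nilradical D) : Function.Surjective (Spec.map f).base := by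
  intro p
  have h : PrimeSpectrum.zeroLocus (RingHom.ker f.hom : Set D) = Set.univ := by
    refine Set.eq_univ_of_forall fun q => ?_
    rw [PrimeSpectrum.mem_zeroLocus]
    exact fun x hx => (nilradical_eq_sInf D ▸ hk hx : x ∈ sInf {J : Ideal D | J.IsPrime}) |>
      fun h => Ideal.mem_sInf.mp h q.2
  have := range_comap_of_surjective _ f.hom hf
  rw [h, Set.range_eq_univ] at this
  exact this p

include hJ in
/-- **Averaging**: a point fixed modulo a square-zero ideal, in an affine open, is congruent to a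
fixed point. -/
theorem exists_fixed_lift {X : Over (Spec A)} {V : Scheme.{u}} [IsAffine V] (j : V ⟶ X.left)
    [IsOpenImmersion j] (act : Red.DS (Spec A) M ⊗ X ⟶ X)
    (hact : ∀ (Y : Over (Spec A)) (h h' : Y ⟶ Red.DS (Spec A) M) (z : Y ⟶ X),
      lift (h * h') z ≫ act = lift h (lift h' z ≫ act) ≫ act)
    (ξ : test (𝟙 (Spec A)) (𝟙 A) ⟶ X) (hξ : Set.range ξ.left.base ⊆ Set.range j.base)
    (h0 : ∀ (Y : Over (Spec A))
      (p : Y ⟶ test (𝟙 (Spec A)) (CommRingCat.ofHom (Ideal.Quotient.mk J) : A ⟶ CommRingCat.of (A ⧸ J)))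
      (h : Y ⟶ Red.DS (Spec A) M),
      lift h (p ≫ tm (φ := 𝟙 A) (CommRingCat.ofHom (Ideal.Quotient.mk J)) (Category.id_comp _) ≫ ξ) ≫ act =
        p ≫ tm (φ := 𝟙 A) (CommRingCat.ofHom (Ideal.Quotient.mk J)) (Category.id_comp _) ≫ ξ) :
    ∃ xb : test (𝟙 (Spec A)) (𝟙 A) ⟶ X,
      tm (φ := 𝟙 A) (CommRingCat.ofHom (Ideal.Quotient.mk J) : A ⟶ CommRingCat.of (A ⧸ J))
          (Category.id_comp _) ≫ xb =
        tm (φ := 𝟙 A) (CommRingCat.ofHom (Ideal.Quotient.mk J) : A ⟶ CommRingCat.of (A ⧸ J))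
          (Category.id_comp _) ≫ ξ ∧
      ∀ (Y : Over (Spec A)) (p : Y ⟶ test (𝟙 (Spec A)) (𝟙 A)) (h : Y ⟶ Red.DS (Spec A) M),
        lift h (p ≫ xb) ≫ act = p ≫ xb := by
  let B : CommRingCat.{u} := ring (A := A) M
  let B₂ : CommRingCat.{u} := CommRingCat.of (MonoidAlgebra A (N × N))
  let inc : A ⟶ B := CommRingCat.ofHom MonoidAlgebra.singleOneRingHom
  let inc₂ : A ⟶ B₂ := CommRingCat.ofHom MonoidAlgebra.singleOneRingHom
  let i₁ : B ⟶ B₂ := CommRingCat.ofHom (ev2 A N (MonoidHom.inl N N))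
  let i₂ : B ⟶ B₂ := CommRingCat.ofHom (ev2 A N (MonoidHom.inr N N))
  let dg : B ⟶ B₂ := CommRingCat.ofHom (ev2 A N (MonoidHom.prod (MonoidHom.id N) (MonoidHom.id N)))
  have hinc : ∀ f : N →* N × N, inc ≫ CommRingCat.ofHom (ev2 A N f) = inc₂ := fun f => by
    refine CommRingCat.hom_ext (RingHom.ext fun a => ?_)
    show ev2 A N f (MonoidAlgebra.single 1 a) = MonoidAlgebra.single 1 a
    rw [ev2_single, map_one]
  obtain ⟨r₁, r₂, r, hr, hr₁, hr₂, hr'⟩ := univ_mul (𝟙 (Spec A)) M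
  have er₁ : r₁ = tm i₁ (hinc _) := Over.OverMorphism.ext hr₁
  have er₂ : r₂ = tm i₂ (hinc _) := Over.OverMorphism.ext hr₂
  have er : r = tm dg (hinc _) := Over.OverMorphism.ext hr'
  subst er₁ er₂ er
  let mkA : A ⟶ CommRingCat.of (A ⧸ J) := CommRingCat.ofHom (Ideal.Quotient.mk J)
  let mkB : B ⟶ CommRingCat.of (B ⧸ JB J N) := CommRingCat.ofHom (Ideal.Quotient.mk (JB J N))
  let ι₀ : CommRingCat.of (A ⧸ J) ⟶ CommRingCat.of (B ⧸ JB J N) :=
    CommRingCat.ofHom (Ideal.Quotient.lift J (inc ≫ mkB).hom fun a ha =>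
      Ideal.Quotient.eq_zero_iff_mem.mpr (Ideal.mem_map_of_mem _ ha))
  have hsB : Function.Surjective (Spec.map mkB).base :=
    surjective_specMap mkB Ideal.Quotient.mk_surjective
      (by rw [show RingHom.ker mkB.hom = JB J N from Ideal.mk_ker]; exact le_nilradical J hJ)
  let T := test (𝟙 (Spec A)) (𝟙 A)
  let pr : test (𝟙 (Spec A)) inc ⟶ T := tm inc (Category.id_comp _)
  let U := univPt (𝟙 (Spec A)) M
  let m₀ := tm (φ := 𝟙 A) mkA (Category.id_comp _)
  let π₀ : test (𝟙 (Spec A)) (inc ≫ mkB) ⟶ test (𝟙 (Spec A)) mkA := tm ι₀ (by ext a; rfl)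
  have hmod : ∀ ζ : T ⟶ X, m₀ ≫ ζ = m₀ ≫ ξ →
      tm (φ' := inc ≫ mkB) mkB rfl ≫ lift U (pr ≫ ζ) ≫ act = π₀ ≫ m₀ ≫ ξ := by
    intro ζ hζ
    rw [comp_lift_assoc]
    have e : tm (φ' := inc ≫ mkB) mkB rfl ≫ pr = π₀ ≫ m₀ := Over.OverMorphism.ext (by
      show Spec.map mkB ≫ Spec.map inc = Spec.map ι₀ ≫ Spec.map mkA
      rw [← Spec.map_comp, ← Spec.map_comp]; rfl)
    rw [reassoc_of% e, hζ]
    exact h0 _ π₀ _
  have hland : ∀ ζ : T ⟶ X, m₀ ≫ ζ = m₀ ≫ ξ →
      Set.range (lift U (pr ≫ ζ) ≫ act).left.base ⊆ Set.range j.base := by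
    rintro ζ hζ _ ⟨z, rfl⟩
    obtain ⟨z', rfl⟩ := hsB z
    refine hξ ⟨(π₀ ≫ m₀).left.base z', ?_⟩
    exact (congr(($(congrArg CommaMorphism.left (hmod ζ hζ))).base z')).symm
  let y := lift U (pr ≫ ξ) ≫ act
  -- coordinates in `V`
  let yV := IsOpenImmersion.lift j y.left (hland ξ rfl)
  let xV := IsOpenImmersion.lift j ξ.left hξ
  let φ : Γ(V, ⊤) ⟶ B := Spec.preimage (yV ≫ V.isoSpec.hom)
  let e : Γ(V, ⊤) ⟶ A := Spec.preimage (xV ≫ V.isoSpec.hom)
  have hφ : Spec.map φ ≫ V.isoSpec.inv ≫ j = y.left := by simp [φ, yV]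
  have he : Spec.map e ≫ V.isoSpec.inv ≫ j = ξ.left := by simp [e, xV]
  have hcm : φ ≫ mkB = e ≫ inc ≫ mkB := by
    apply Spec.map_injective
    rw [← cancel_mono V.isoSpec.inv, ← cancel_mono j]
    simp only [Spec.map_comp, Category.assoc, hφ, he]
    exact (congrArg CommaMorphism.left (hmod ξ rfl)).trans (by
      show Spec.map ι₀ ≫ Spec.map mkA ≫ ξ.left = _
      rw [← Spec.map_comp_assoc, ← Spec.map_comp_assoc]; rfl)
  have hc2 : ∀ f, φ.hom f - inc.hom (e.hom f) ∈ JB J N := fun f => by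
    rw [← Ideal.Quotient.eq]
    exact congr((CommRingCat.Hom.hom $hcm) f)
  -- the thickening
  let R' : CommRingCat.{u} := CommRingCat.of (thick J N)
  let sub : R' ⟶ B₂ := CommRingCat.ofHom (thick J N).subtype
  have hsub : Mono sub := ConcreteCategory.mono_of_injective _ Subtype.val_injective
  let j₁ : B ⟶ R' := CommRingCat.ofHom ((ev2 A N (MonoidHom.inl N N)).codRestrict (thick J N)
    fun b => (mem_thick J).2 ⟨b, by rw [sub_self]; exact Ideal.zero_mem _⟩)
  let φR : A ⟶ R' := inc ≫ j₁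
  let π := tm (φ := φR) (φ' := inc₂) sub (hinc (MonoidHom.inl N N))
  have hfac : ∀ f : N →* N × N, ∀ z, ev2 A N f (φ.hom z) ∈ thick J N := fun f z =>
    (mem_thick J).2 ⟨inc.hom (e.hom z), by
      have h1 : ev2 A N (MonoidHom.inl N N) (inc.hom (e.hom z)) = ev2 A N f (inc.hom (e.hom z)) :=
        (congr((CommRingCat.Hom.hom $(hinc _)) (e.hom z))).trans
          (congr((CommRingCat.Hom.hom $(hinc f)) (e.hom z))).symm
      rw [h1, ← map_sub]
      exact ev2_mem J f (hc2 z)⟩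
  have hd : ∀ (f : N →* N × N), ∃ d : test (𝟙 (Spec A)) φR ⟶ X,
      π ≫ d = tm (CommRingCat.ofHom (ev2 A N f)) (hinc f) ≫ y ∧
      ∃ q : Γ(V, ⊤) ⟶ R', d.left = Spec.map q ≫ V.isoSpec.inv ≫ j ∧
        q ≫ sub = φ ≫ CommRingCat.ofHom (ev2 A N f) := fun f => by
    let q : Γ(V, ⊤) ⟶ R' := CommRingCat.ofHom
      (((ev2 A N f).comp φ.hom).codRestrict (thick J N) (hfac f))
    have hq : q ≫ sub = φ ≫ CommRingCat.ofHom (ev2 A N f) := rfl
    have hπl : Spec.map sub ≫ Spec.map q ≫ V.isoSpec.inv ≫ j =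
        (tm (CommRingCat.ofHom (ev2 A N f)) (hinc f) ≫ y).left := by
      rw [Over.comp_left, ← Spec.map_comp_assoc, hq, Spec.map_comp_assoc, hφ]
      rfl
    have hw : (Spec.map q ≫ V.isoSpec.inv ≫ j) ≫ X.hom = Spec.map φR ≫ 𝟙 _ := by
      rw [Category.comp_id, ← Spec.map_preimage ((Spec.map q ≫ V.isoSpec.inv ≫ j) ≫ X.hom)]
      congr 1
      rw [← cancel_mono sub]
      apply Spec.map_injective
      rw [Spec.map_comp, Spec.map_comp, Spec.map_preimage, ← Category.assoc, hπl, Over.w,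
        ← Spec.map_comp]
      show Spec.map inc₂ ≫ 𝟙 _ = _
      rw [Category.comp_id]
      exact congrArg Spec.map (hinc (MonoidHom.inl N N)).symm
    exact ⟨Over.homMk (Spec.map q ≫ V.isoSpec.inv ≫ j) hw, Over.OverMorphism.ext hπl, q, rfl, hq⟩
  obtain ⟨d₂, hd₂, q₂, hq₂, hq₂'⟩ := hd (MonoidHom.inr N N)
  obtain ⟨d, hd₃, q₃, hq₃, hq₃'⟩ := hd (MonoidHom.prod (MonoidHom.id N) (MonoidHom.id N))
  -- the integral is multiplicative on the thickening
  let σr : R' ⟶ B := CommRingCat.ofHom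
    { toFun := fun z => integral (z : MonoidAlgebra A (N × N))
      map_one' := integral_one
      map_mul' := fun z z' => integral_mul J hJ z.2 z'.2
      map_zero' := map_zero _
      map_add' := fun z z' => map_add _ _ _ }
  have hσj : j₁ ≫ σr = 𝟙 B := by
    refine CommRingCat.hom_ext (RingHom.ext fun b => ?_)
    show integral (ev2 A N (MonoidHom.inl N N) b) = b
    simpa [integral_one] using integral_inl_mul b (1 : MonoidAlgebra A (N × N))
  let σ := tm (φ := φR) (φ' := inc) σr (by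
    show (inc ≫ j₁) ≫ σr = inc
    rw [Category.assoc, hσj, Category.comp_id])
  let ρ := tm (φ := inc) (φ' := φR) j₁ rfl
  have hπρ : π ≫ ρ = tm i₁ (hinc _) := Over.OverMorphism.ext (by
    show Spec.map sub ≫ Spec.map j₁ = Spec.map i₁
    rw [← Spec.map_comp]; rfl)
  have hσρ : σ ≫ ρ = 𝟙 _ := Over.OverMorphism.ext (by
    show Spec.map σr ≫ Spec.map j₁ = 𝟙 _
    rw [← Spec.map_comp, hσj, Spec.map_id])
  have hσs : Function.Surjective (Spec.map σr).base := by
    refine surjective_specMap σr (fun b => ⟨j₁.hom b, congr((CommRingCat.Hom.hom $hσj) b)⟩)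
      fun z hz => ?_
    obtain ⟨b, hb⟩ := (mem_thick J).1 z.2
    have h1 := integral_mem J hb
    rw [map_sub, show integral (z : MonoidAlgebra A (N × N)) = 0 from hz, zero_sub, neg_mem_iff] at h1
    have h2 : integral (ev2 A N (MonoidHom.inl N N) b) = b := congr((CommRingCat.Hom.hom $hσj) b)
    rw [h2] at h1
    have hz2 : (z : MonoidAlgebra A (N × N)) ∈ JB J (N × N) := by
      simpa using add_mem hb (ev2_mem J (MonoidHom.inl N N) h1)
    rw [mem_nilradical]
    exact ⟨2, Subtype.ext (by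
      show ((z : MonoidAlgebra A (N × N))) ^ 2 = 0
      rw [pow_two]
      exact mul_eq_zero_of_mem J hJ hz2 hz2)⟩
  -- the averaged point
  let aug : B ⟶ A := CommRingCat.ofHom (MonoidAlgebra.liftNCRingHom (RingHom.id A) (1 : N →* A)
    (fun _ _ => Commute.all _ _))
  have haug : inc ≫ aug = 𝟙 A := by
    refine CommRingCat.hom_ext (RingHom.ext fun a => ?_)
    show MonoidAlgebra.liftNCRingHom (RingHom.id A) (1 : N →* A) (fun _ _ => Commute.all _ _)
      (MonoidAlgebra.single 1 a) = a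
    simp [MonoidAlgebra.liftNCRingHom_single]
  let xb : T ⟶ X := tm (φ := inc) (φ' := 𝟙 A) aug haug ≫ σ ≫ d₂
  let ex : Γ(V, ⊤) ⟶ A := q₂ ≫ σr ≫ aug
  have hxb : xb.left = Spec.map ex ≫ V.isoSpec.inv ≫ j := by
    show Spec.map aug ≫ Spec.map σr ≫ d₂.left = _
    rw [hq₂]; simp [ex]
  have hcoef : ∀ (q : Γ(V, ⊤) ⟶ R') (f : N →* N × N),
      q ≫ sub = φ ≫ CommRingCat.ofHom (ev2 A N f) → ∀ z,
      σr.hom (q.hom z) = integral (ev2 A N f (φ.hom z)) := fun q f hq z => by
    show integral ((q.hom z : MonoidAlgebra A (N × N))) = _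
    exact congrArg integral (congr((CommRingCat.Hom.hom $hq) z))
  have hex : ∀ z, ex.hom z = (φ.hom z).coeff 1 := fun z => by
    show aug.hom (σr.hom (q₂.hom z)) = _
    rw [hcoef q₂ _ hq₂', integral_inr]
    exact congr((CommRingCat.Hom.hom $haug) _)
  have hd₂' : σ ≫ d₂ = pr ≫ xb := by
    apply Over.OverMorphism.ext
    show Spec.map σr ≫ d₂.left = Spec.map inc ≫ xb.left
    rw [hxb, hq₂, ← Spec.map_comp_assoc, ← Spec.map_comp_assoc]
    congr 2
    refine CommRingCat.hom_ext (RingHom.ext fun z => ?_)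
    show σr.hom (q₂.hom z) = inc.hom (ex.hom z)
    rw [hex, hcoef q₂ _ hq₂', integral_inr]
    rfl
  have hd₃'' : σ ≫ d = pr ≫ xb := by
    rw [← hd₂']
    apply Over.OverMorphism.ext
    show Spec.map σr ≫ d.left = Spec.map σr ≫ d₂.left
    rw [hq₂, hq₃, ← Spec.map_comp_assoc, ← Spec.map_comp_assoc]
    congr 2
    refine CommRingCat.hom_ext (RingHom.ext fun z => ?_)
    show σr.hom (q₃.hom z) = σr.hom (q₂.hom z)
    rw [hcoef q₂ _ hq₂', hcoef q₃ _ hq₃', integral_inr, integral_diag]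
  have hmk : m₀ ≫ xb = m₀ ≫ ξ := by
    apply Over.OverMorphism.ext
    show Spec.map mkA ≫ xb.left = Spec.map mkA ≫ ξ.left
    rw [hxb, ← he, ← Spec.map_comp_assoc, ← Spec.map_comp_assoc]
    congr 2
    refine CommRingCat.hom_ext (RingHom.ext fun z => ?_)
    show Ideal.Quotient.mk J (ex.hom z) = Ideal.Quotient.mk J (e.hom z)
    rw [Ideal.Quotient.eq, hex]
    have := coeff_mem J (hc2 z) (1 : N)
    have e1 : (inc.hom (e.hom z) : MonoidAlgebra A N).coeff 1 = e.hom z := by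
      show (MonoidAlgebra.single (1 : N) (e.hom z)).coeff 1 = _
      rw [MonoidAlgebra.coeff_single, Finsupp.single_eq_same]
    erw [MonoidAlgebra.coeff_sub, Finsupp.sub_apply, e1] at this
    exact this
  -- the fixed-point identity on the thickening
  let w := lift (ρ ≫ U) d₂ ≫ act
  have hσw : σ ≫ w = lift U (pr ≫ xb) ≫ act := by
    show σ ≫ lift (ρ ≫ U) d₂ ≫ act = _
    rw [comp_lift_assoc, reassoc_of% hσρ, hd₂']
  have hwr : Set.range w.left.base ⊆ Set.range j.base := by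
    rintro _ ⟨z, rfl⟩
    obtain ⟨z', rfl⟩ := hσs z
    exact hland xb hmk ⟨z', congr(($(congrArg CommaMorphism.left hσw)).base z').symm⟩
  have hπw : π ≫ w = π ≫ d := by
    show π ≫ lift (ρ ≫ U) d₂ ≫ act = π ≫ d
    rw [comp_lift_assoc, reassoc_of% hπρ, hd₂, hd₃]
    show lift _ (tm i₂ (hinc _) ≫ lift U (pr ≫ ξ) ≫ act) ≫ act =
      tm dg (hinc _) ≫ lift U (pr ≫ ξ) ≫ act
    rw [comp_lift_assoc (tm dg (hinc _)), hr, hact, comp_lift_assoc (tm i₂ (hinc _))]
    congr 4
    rw [← Category.assoc, ← Category.assoc]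
    congr 1
    apply Over.OverMorphism.ext
    show Spec.map i₂ ≫ Spec.map inc = Spec.map dg ≫ Spec.map inc
    rw [← Spec.map_comp, ← Spec.map_comp, hinc, hinc]
  have hwd : w = d := by
    apply Over.OverMorphism.ext
    have hm : Mono j := inferInstance
    rw [← IsOpenImmersion.lift_fac j w.left hwr, hq₃, ← Category.assoc (Spec.map q₃)]
    congr 1
    rw [← cancel_mono V.isoSpec.hom, Category.assoc, Iso.inv_hom_id, Category.comp_id,
      ← Spec.map_preimage (IsOpenImmersion.lift j w.left hwr ≫ V.isoSpec.hom)]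
    congr 1
    rw [← cancel_mono sub]
    apply Spec.map_injective
    rw [Spec.map_comp, Spec.map_comp, Spec.map_preimage, ← cancel_mono V.isoSpec.inv, ← cancel_mono j]
    simp only [Category.assoc, Iso.hom_inv_id_assoc, IsOpenImmersion.lift_fac, ← hq₃]
    exact congrArg CommaMorphism.left hπw
  have huniv : lift U (pr ≫ xb) ≫ act = pr ≫ xb := by
    rw [← hσw, hwd, hd₃'']
  refine ⟨xb, hmk, fun Y p h => ?_⟩
  obtain ⟨s, hs⟩ := exists_fac (𝟙 (Spec A)) M Y.hom (Category.comp_id _) h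
  have hp : p = s ≫ pr := by
    apply Over.OverMorphism.ext
    have h1 := Over.w p
    have h2' := Over.w (s ≫ pr)
    simp [test] at h1 h2' ⊢
    rw [h1]
    exact h2'.symm
  rw [← hs, hp, Category.assoc, ← comp_lift_assoc, huniv]

end Groth.Agent.Lib.MultSmooth
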