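import Groth.Agent.Lib.MultSmooth.Lifting

/-!
# Smoothness of closed subschemes through infinitesimal lifting in affine charts of the ambient
scheme, fpqc locally on the base
-/

set_option autoImplicit false
universe u

open CategoryTheory CategoryTheory.Limits AlgebraicGeometry
open Groth.Agent.Lib.Tori PrimeSpectrum

namespace Groth.Agent.Lib.MultSmooth

set_option linter.style.haveILetI false

variable {X Y P : Scheme.{u}}

theorem surjective_specMap_quot {A : CommRingCat.{u}} (J : Ideal A) (hJ : J ^ 2 = ⊥) :
    Function.Surjective (Spec.map (CommRingCat.ofHom (Ideal.Quotient.mk J))).base := by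
  intro p
  have h : p ∈ Set.range (PrimeSpectrum.comap (Ideal.Quotient.mk J)) := by
    rw [range_comap_of_surjective _ _ Ideal.Quotient.mk_surjective, Ideal.mk_ker]
    change (J : Set A) ⊆ p.asIdeal
    intro x hx
    refine p.2.mem_of_pow_mem 2 ?_
    have : x ^ 2 ∈ J ^ 2 := Ideal.pow_mem_pow hx 2
    rw [hJ, Ideal.mem_bot] at this
    exact this ▸ p.asIdeal.zero_mem
  exact h

/-- Smoothness descends along fpqc covers of the base. -/
theorem smooth_of_snd {S S' : Scheme.{u}} (f : X ⟶ S) (p : S' ⟶ S) [Flat p] (hc : Basic.IsQCCover p)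
    (h' : Smooth (pullback.snd f p)) : Smooth f := by
  refine IsZariskiLocalAtTarget.of_openCover (P := @Smooth)
    (𝒰 := S.openCoverOfIsOpenCover (fun V : S.affineOpens => V.1) (iSup_affineOpens_eq_top S)) ?_
  intro (V : S.affineOpens)
  obtain ⟨W, hle, hqc, hqs⟩ := Groth.Agent.H87.MT.exists_qc_res p hc V.2
  change Smooth (Limits.pullback.snd f V.1.ι)
  refine MorphismProperty.of_pullback_snd_of_descendsAlong (P := @Smooth)
    (Q := @Surjective ⊓ @Flat ⊓ @QuasiCompact) (g := p.resLE V.1 W hle) ⟨⟨hqs, inferInstance⟩, hqc⟩ ?_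
  rw [← Limits.pullbackLeftPullbackSndIso_hom_snd]
  refine (MorphismProperty.cancel_left_of_respectsIso @Smooth _ _).2 ?_
  have h3 : Smooth (Limits.pullback.snd (Limits.pullback.snd f p) W.ι) :=
    MorphismProperty.of_isPullback (IsPullback.of_hasPullback _ _) h'
  have key : ∀ g : (W : Scheme.{u}) ⟶ S, g = W.ι ≫ p → Smooth (Limits.pullback.snd f g) := by
    rintro _ rfl
    rw [← Limits.pullbackLeftPullbackSndIso_inv_snd_snd f p W.ι]
    exact (MorphismProperty.cancel_left_of_respectsIso @Smooth _ _).2 h3
  exact key _ (Scheme.Hom.resLE_comp_ι _ _)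

/-- **Smoothness of a closed subscheme through liftings.** The point to lift may be assumed to lie
in an affine open of the ambient scheme over the base of the lifting problem. -/
theorem smooth_of_closed_locally {S S' : Scheme.{u}} (c : X ⟶ P) [IsClosedImmersion c] (q : P ⟶ S)
    [LocallyOfFinitePresentation (c ≫ q)] (p : S' ⟶ S) [Flat p] (hc : Basic.IsQCCover p)
    (hloc : ∀ s' : S', ∃ U : S'.Opens, s' ∈ U ∧ ∀ (A : CommRingCat.{u}) (J : Ideal A), J ^ 2 = ⊥ →
      ∀ (t : Spec A ⟶ S'), Set.range t.base ⊆ U →
      ∀ (c₀ : Spec (CommRingCat.of (A ⧸ J)) ⟶ X)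
        (hc₀ : (c₀ ≫ c) ≫ q = Spec.map (CommRingCat.ofHom (Ideal.Quotient.mk J)) ≫ t ≫ p)
        (V : Scheme.{u}) (_ : IsAffine V) (j : V ⟶ pullback q (t ≫ p)) (_ : IsOpenImmersion j),
        Set.range (pullback.lift (c₀ ≫ c) (Spec.map (CommRingCat.ofHom (Ideal.Quotient.mk J))) hc₀).base ⊆
          Set.range j.base →
        ∃ cl : Spec A ⟶ X, (cl ≫ c) ≫ q = t ≫ p ∧
          Spec.map (CommRingCat.ofHom (Ideal.Quotient.mk J)) ≫ cl = c₀) :
    Smooth (c ≫ q) := by
  choose U hU hlift using hloc
  refine smooth_of_snd _ p hc ?_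
  let f' := pullback.snd (c ≫ q) p
  let cp : pullback (c ≫ q) p ⟶ pullback q p :=
    pullback.lift (pullback.fst _ _ ≫ c) f' (by rw [Category.assoc, pullback.condition])
  have hcp : IsPullback cp (pullback.fst (c ≫ q) p) (pullback.fst q p) c := by
    refine IsPullback.of_right ?_ (pullback.lift_fst _ _ _) (IsPullback.of_hasPullback q p).flip
    rw [pullback.lift_snd]
    exact (IsPullback.of_hasPullback (c ≫ q) p).flip
  haveI : IsClosedImmersion cp := MorphismProperty.of_isPullback hcp.flip ‹_›
  have key : ∀ z : (pullback (c ≫ q) p : Scheme.{u}), ∃ W : (pullback (c ≫ q) p).Opens,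
      z ∈ W ∧ Smooth (W.ι ≫ f') := by
    intro z
    let s' := f'.base z
    obtain ⟨O, hO, hsO, hOU⟩ := exists_isAffineOpen_mem_and_subset (hU s')
    have hzO : cp.base z ∈ pullback.snd q p ⁻¹ᵁ O := by
      show (pullback.snd q p).base (cp.base z) ∈ O
      have : (cp ≫ pullback.snd q p).base z = f'.base z := by rw [pullback.lift_snd]
      rw [Scheme.Hom.comp_base, TopCat.comp_app] at this
      rw [this]; exact hsO
    obtain ⟨V, hV, hzV, hVO⟩ := exists_isAffineOpen_mem_and_subset hzO
    let W := cp ⁻¹ᵁ V
    have hW : IsAffineOpen W := hV.preimage cp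
    haveI : IsAffine (W : Scheme.{u}) := hW
    haveI : IsAffine (O : Scheme.{u}) := hO
    haveI : IsAffine (V : Scheme.{u}) := hV
    have hfcp : cp ≫ pullback.snd q p = f' := pullback.lift_snd _ _ _
    have hWO : W ≤ f' ⁻¹ᵁ O := fun w hw => by
      have h1 := hVO hw
      rw [← hfcp]
      exact h1
    refine ⟨W, hzV, ?_⟩
    rw [← Scheme.Hom.resLE_comp_ι f' hWO]
    haveI : LocallyOfFinitePresentation f' := inferInstance
    haveI : LocallyOfFinitePresentation (f'.resLE O W hWO ≫ O.ι) := by
      rw [Scheme.Hom.resLE_comp_ι]; infer_instance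
    haveI : LocallyOfFinitePresentation (f'.resLE O W hWO) :=
      MorphismProperty.of_postcomp (W := @LocallyOfFinitePresentation) (W' := @IsOpenImmersion) _ O.ι inferInstance inferInstance
    haveI : Smooth (f'.resLE O W hWO) := smooth_of_lifts _ fun A J hJ t w₀ hw₀ => by
      rw [Category.comp_id] at hw₀ ⊢
      let mk : Spec (CommRingCat.of (A ⧸ J)) ⟶ Spec A := Spec.map (CommRingCat.ofHom (Ideal.Quotient.mk J))
      let c₀ := w₀ ≫ W.ι ≫ pullback.fst (c ≫ q) p
      have hw' : w₀ ≫ W.ι ≫ f' = mk ≫ t ≫ O.ι := by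
        rw [← Scheme.Hom.resLE_comp_ι f' hWO, reassoc_of% hw₀]
      have hc₀ : (c₀ ≫ c) ≫ q = mk ≫ (t ≫ O.ι) ≫ p := by
        simp only [c₀, Category.assoc]
        rw [pullback.condition (f := c ≫ q) (g := p)]
        simp only [f'] at hw'
        rw [reassoc_of% hw']
      have hsub : (V : Set (pullback q p : Scheme.{u})) ⊆ pullback.snd q p ⁻¹ᵁ O := hVO
      let v : (V : Scheme.{u}) ⟶ O := (pullback.snd q p).resLE O V (fun w hw => hsub hw)
      haveI : IsAffine (pullback v t) := isAffine_of_isAffineHom (pullback.snd v t)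
      have hv : v ≫ O.ι = V.ι ≫ pullback.snd q p := Scheme.Hom.resLE_comp_ι _ _
      have hj : (pullback.fst v t ≫ V.ι ≫ pullback.fst q p) ≫ q = pullback.snd v t ≫ (t ≫ O.ι) ≫ p := by
        simp only [Category.assoc]
        rw [pullback.condition (f := q) (g := p), ← reassoc_of% hv, pullback.condition_assoc]
      let j : pullback v t ⟶ pullback q ((t ≫ O.ι) ≫ p) := pullback.lift _ _ hj
      let m : pullback q ((t ≫ O.ι) ≫ p) ⟶ pullback q p :=
        pullback.lift (pullback.fst _ _) (pullback.snd _ _ ≫ t ≫ O.ι)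
          (by rw [pullback.condition, Category.assoc, Category.assoc, Category.assoc])
      have hjm : IsPullback j (pullback.fst v t) m V.ι := by
        have hm : IsPullback m (pullback.snd q ((t ≫ O.ι) ≫ p)) (pullback.snd q p) (t ≫ O.ι) := by
          refine IsPullback.of_right ?_ (pullback.lift_snd _ _ _) (IsPullback.of_hasPullback q p)
          rw [pullback.lift_fst]
          exact IsPullback.of_hasPullback q _
        refine IsPullback.of_right ?_ ?_ hm.flip
        · rw [pullback.lift_snd, ← hv]
          exact (IsPullback.of_isLimit (pullbackIsPullbackOfCompMono v t O.ι)).flip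
        · apply pullback.hom_ext
          · simp only [j, m, Category.assoc]
            erw [pullback.lift_fst, pullback.lift_fst]
          · simp only [j, m, Category.assoc]
            erw [pullback.lift_snd, pullback.lift_snd_assoc]
            rw [← hv, pullback.condition_assoc]
      haveI : IsOpenImmersion j := MorphismProperty.of_isPullback hjm.flip inferInstance
      have hlim : ∀ x, m.base ((pullback.lift (c₀ ≫ c) mk hc₀).base x) ∈ V := fun x => by
        have e : pullback.lift (c₀ ≫ c) mk hc₀ ≫ m = w₀ ≫ W.ι ≫ cp := by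
          apply pullback.hom_ext
          · simp only [m, cp, c₀, Category.assoc]
            erw [pullback.lift_fst, pullback.lift_fst, pullback.lift_fst]
          · simp only [m, cp, Category.assoc, pullback.lift_snd, pullback.lift_snd_assoc]
            exact hw'.symm
        have h1 : (pullback.lift (c₀ ≫ c) mk hc₀ ≫ m).base x = (w₀ ≫ W.ι ≫ cp).base x := by rw [e]
        simp only [Scheme.Hom.comp_base, TopCat.comp_app] at h1
        rw [h1]
        exact (w₀.base x).2
      obtain ⟨cl, hcl, hcl'⟩ := hlift s' A J hJ (t ≫ O.ι) (by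
        rintro _ ⟨x, rfl⟩
        exact hOU (t.base x).2) c₀ hc₀ (pullback v t) inferInstance j inferInstance (by
        rintro _ ⟨x, rfl⟩
        obtain ⟨w, hw, -⟩ := Scheme.exists_preimage_of_isPullback hjm
          ((pullback.lift (c₀ ≫ c) mk hc₀).base x) ⟨_, hlim x⟩ rfl
        exact ⟨w, hw⟩)
      let cl' : Spec A ⟶ pullback (c ≫ q) p := pullback.lift cl (t ≫ O.ι) (by rw [← Category.assoc, hcl])
      have hW' : Set.range cl'.base ⊆ Set.range W.ι.base := by
        rintro _ ⟨x, rfl⟩
        obtain ⟨x', rfl⟩ := surjective_specMap_quot J hJ x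
        refine ⟨w₀.base x', ?_⟩
        have e : w₀ ≫ W.ι = mk ≫ cl' := by
          apply pullback.hom_ext
          · simp only [cl', Category.assoc, pullback.lift_fst]
            exact hcl'.symm
          · simp only [cl', Category.assoc, pullback.lift_snd]
            exact hw'
        exact congr(($e).base x')
      refine ⟨IsOpenImmersion.lift W.ι cl' hW', ?_, ?_⟩
      · rw [← cancel_mono O.ι, Category.assoc, Scheme.Hom.resLE_comp_ι, IsOpenImmersion.lift_fac_assoc]
        exact pullback.lift_snd _ _ _
      · rw [← cancel_mono W.ι, Category.assoc, IsOpenImmersion.lift_fac]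
        apply pullback.hom_ext
        · simp only [cl', Category.assoc, pullback.lift_fst]
          exact hcl'
        · simp only [cl', Category.assoc, pullback.lift_snd]
          exact hw'.symm
    infer_instance
  choose W hW hsm using key
  refine IsZariskiLocalAtSource.of_openCover (P := @Smooth)
    ((pullback (c ≫ q) p).openCoverOfIsOpenCover W
      (TopologicalSpace.IsOpenCover.mk (eq_top_iff.mpr fun x _ =>
        TopologicalSpace.Opens.mem_iSup.mpr ⟨x, hW x⟩))) fun z => ?_
  exact hsm z

end Groth.Agent.Lib.MultSmooth
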