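import Groth.Agent.Lib.MultSmooth.FixLift
import Groth.Agent.Lib.MultSmooth.LiftingGen
import Groth.Agent.H87.Charts
import Groth.Agent.Lib.RedPts.BC
import Groth.Prelude.Def_AlgGrp

/-!
# The fixed points of an action of a group of multiplicative type on a smooth scheme are smooth
-/

set_option autoImplicit false
universe u

open CategoryTheory MonoidalCategory CartesianMonoidalCategory MonObj GrpObj AlgebraicGeometry
open CategoryTheory.Limits
open Groth.Agent.H87 Groth.Agent.H87.HomDS Groth.Agent.Lib.RedPts Groth.Agent.Lib.Tori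

namespace Groth.Agent.Lib.MultSmooth

set_option linter.style.haveILetI false

section Local

variable {A : CommRingCat.{u}} (J : Ideal A) (hJ : J ^ 2 = ⊥) {M : Type} [AddCommGroup M]

include hJ in
/-- A fixed point modulo a square-zero ideal, in an affine open of a smooth scheme, lifts to a
fixed point. -/
theorem exists_fixed_lift_smooth {X : Over (Spec A)} [Smooth X.hom] {V : Scheme.{u}} [IsAffine V]
    (j : V ⟶ X.left) [IsOpenImmersion j] (act : Red.DS (Spec A) M ⊗ X ⟶ X)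
    (hact : ∀ (Y : Over (Spec A)) (h h' : Y ⟶ Red.DS (Spec A) M) (z : Y ⟶ X),
      lift (h * h') z ≫ act = lift h (lift h' z ≫ act) ≫ act)
    (x₀ : test (𝟙 (Spec A)) (CommRingCat.ofHom (Ideal.Quotient.mk J) : A ⟶ CommRingCat.of (A ⧸ J)) ⟶ X)
    (hx₀ : Set.range x₀.left.base ⊆ Set.range j.base)
    (h0 : ∀ (Y : Over (Spec A))
      (p : Y ⟶ test (𝟙 (Spec A)) (CommRingCat.ofHom (Ideal.Quotient.mk J) : A ⟶ CommRingCat.of (A ⧸ J)))
      (h : Y ⟶ Red.DS (Spec A) M), lift h (p ≫ x₀) ≫ act = p ≫ x₀) :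
    ∃ xb : test (𝟙 (Spec A)) (𝟙 A) ⟶ X,
      tm (φ := 𝟙 A) (CommRingCat.ofHom (Ideal.Quotient.mk J) : A ⟶ CommRingCat.of (A ⧸ J))
          (Category.id_comp _) ≫ xb = x₀ ∧
      ∀ (Y : Over (Spec A)) (p : Y ⟶ test (𝟙 (Spec A)) (𝟙 A)) (h : Y ⟶ Red.DS (Spec A) M),
        lift h (p ≫ xb) ≫ act = p ≫ xb := by
  let v := IsOpenImmersion.lift j x₀.left hx₀
  have hv : v ≫ j ≫ X.hom = Spec.map (CommRingCat.ofHom (Ideal.Quotient.mk J)) ≫ 𝟙 (Spec A) := by
    rw [IsOpenImmersion.lift_fac_assoc]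
    exact Over.w x₀
  obtain ⟨l, hl, hl'⟩ := exists_lift_of_smooth (j ≫ X.hom) J hJ (𝟙 (Spec A)) v hv
  let ξ : test (𝟙 (Spec A)) (𝟙 A) ⟶ X := Over.homMk (l ≫ j) (by
    show (l ≫ j) ≫ X.hom = Spec.map (𝟙 A) ≫ 𝟙 _
    rw [Category.assoc, hl, Spec.map_id, Category.id_comp])
  let m₀ := tm (φ := 𝟙 A) (CommRingCat.ofHom (Ideal.Quotient.mk J) : A ⟶ CommRingCat.of (A ⧸ J))
    (Category.id_comp _)
  have hm : m₀ ≫ ξ = x₀ := by
    apply Over.OverMorphism.ext
    show Spec.map _ ≫ l ≫ j = x₀.left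
    rw [reassoc_of% hl', IsOpenImmersion.lift_fac]
  obtain ⟨xb, hxb, hfix⟩ := exists_fixed_lift J hJ j act hact ξ
    (by rintro _ ⟨z, rfl⟩; exact ⟨l.base z, rfl⟩) (fun Y p h => by
      show lift h (p ≫ m₀ ≫ ξ) ≫ act = p ≫ m₀ ≫ ξ
      rw [hm]
      exact h0 Y p h)
  exact ⟨xb, hxb.trans hm, hfix⟩

end Local

variable {S : Scheme.{u}} {G X : Over S} [GrpObj G]

theorem act_mul (a : AlgGrp.Action G X) {Y : Over S} (g g' : Y ⟶ G) (x : Y ⟶ X) :
    lift (g * g') x ≫ a.act = lift g (lift g' x ≫ a.act) ≫ a.act := by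
  have h1 : lift (g * g') x = lift (lift g g') x ≫ (μ[G] ▷ X) := by
    rw [lift_whiskerRight, Hom.mul_def]
  rw [h1, Category.assoc, a.mul_act, lift_lift_associator_hom_assoc, lift_whiskerLeft_assoc]

/-- The transported action of a diagonalisable group. -/
noncomputable def trAct {A : CommRingCat.{u}} (t : Spec A ⟶ S) {M : Type} [AddCommGroup M]
    (e : Grp.mk (Red.bc t G) ≅ Grp.mk (Red.DS (Spec A) M)) (a : AlgGrp.Action G X) :
    Red.DS (Spec A) M ⊗ Red.bc t X ⟶ Red.bc t X :=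
  BC.up t (lift (BC.down t (CartesianMonoidalCategory.fst _ _ ≫ e.inv.hom.hom))
    (BC.down t (CartesianMonoidalCategory.snd _ _)) ≫ a.act)

theorem down_trAct {A : CommRingCat.{u}} (t : Spec A ⟶ S) {M : Type} [AddCommGroup M]
    (e : Grp.mk (Red.bc t G) ≅ Grp.mk (Red.DS (Spec A) M)) (a : AlgGrp.Action G X)
    {Y : Over (Spec A)} (h : Y ⟶ Red.DS (Spec A) M) (z : Y ⟶ Red.bc t X) :
    BC.down t (lift h z ≫ trAct t e a) =
      lift (BC.down t (h ≫ e.inv.hom.hom)) (BC.down t z) ≫ a.act := by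
  rw [BC.down_comp, trAct, BC.down_up, comp_lift_assoc, ← BC.down_comp, ← BC.down_comp,
    lift_fst_assoc, lift_snd]

theorem trAct_mul {A : CommRingCat.{u}} (t : Spec A ⟶ S) {M : Type} [AddCommGroup M]
    (e : Grp.mk (Red.bc t G) ≅ Grp.mk (Red.DS (Spec A) M)) (a : AlgGrp.Action G X)
    {Y : Over (Spec A)} (h h' : Y ⟶ Red.DS (Spec A) M) (z : Y ⟶ Red.bc t X) :
    lift (h * h') z ≫ trAct t e a = lift h (lift h' z ≫ trAct t e a) ≫ trAct t e a := by
  apply BC.down_injective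
  haveI : IsMonHom e.inv.hom.hom := e.inv.hom.isMonHom_hom
  rw [down_trAct, down_trAct, down_trAct, ← act_mul, ← BC.down_mul, MonObj.mul_comp]

/-- **The fixed points are smooth.** -/
theorem smooth_fixedPoints (hG : SGA3x.IsMultTypeFT G) [Smooth X.hom] (a : AlgGrp.Action G X)
    {F : Scheme.{u}} (f : F ⟶ X.left) [IsClosedImmersion f] [LocallyOfFinitePresentation (f ≫ X.hom)]
    (hF : ∀ (T : Over S) (x : T ⟶ X), (∃ y : T.left ⟶ F, y ≫ f = x.left) ↔
        ∀ (T' : Over S) (t : T' ⟶ T) (g : T' ⟶ G), lift g (t ≫ x) ≫ a.act = t ≫ x) :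
    Smooth (f ≫ X.hom) := by
  obtain ⟨S', p, hp, -, hcov, hloc⟩ := Charts.exists_common_charts hG hG
  refine smooth_of_closed_locally f X.hom p hcov fun s' => ?_
  obtain ⟨U, hU, M, _, iM, _, -, -, ⟨e₀⟩, -⟩ := hloc s'
  refine ⟨U, hU, fun A J hJ t ht c₀ hc₀ V _ j _ hj => ?_⟩
  let t₁ : Spec A ⟶ (U : Scheme.{u}) := IsOpenImmersion.lift U.ι t (by simpa using ht)
  let e : Grp.mk (Red.bc (t ≫ p) G) ≅ Grp.mk (Red.DS (Spec A) M) :=
    BaseChange.bcCongr (by rw [IsOpenImmersion.lift_fac_assoc]) G ≪≫ Charts.resChart e₀ t₁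
  let mk : A ⟶ CommRingCat.of (A ⧸ J) := CommRingCat.ofHom (Ideal.Quotient.mk J)
  let T₀ := test (𝟙 (Spec A)) mk
  let x₀S : (Over.map (t ≫ p)).obj T₀ ⟶ X := Over.homMk (c₀ ≫ f) (by
    show (c₀ ≫ f) ≫ X.hom = (Spec.map mk ≫ 𝟙 _) ≫ t ≫ p
    rw [Category.comp_id]
    exact hc₀)
  let x₀ : T₀ ⟶ Red.bc (t ≫ p) X := BC.up (t ≫ p) x₀S
  have hl : x₀.left = pullback.lift (c₀ ≫ f) (Spec.map mk) hc₀ := by
    apply pullback.hom_ext
    · rw [pullback.lift_fst]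
      exact congrArg CommaMorphism.left (BC.down_up (f := t ≫ p) x₀S)
    · rw [pullback.lift_snd]
      exact (Over.w x₀).trans (Category.comp_id _)
  haveI : Smooth (Red.bc (t ≫ p) X).hom :=
    MorphismProperty.pullback_snd (P := @Smooth) _ _ inferInstance
  obtain ⟨xb, hxb, hfix⟩ := exists_fixed_lift_smooth J hJ (X := Red.bc (t ≫ p) X) j
    (trAct (t ≫ p) e a) (fun Y h h' z => trAct_mul _ e a h h' z) x₀ (by rw [hl]; exact hj)
    (fun Y q h => by
      apply BC.down_injective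
      rw [down_trAct, BC.down_comp q, BC.down_up]
      exact (hF _ x₀S).1 ⟨c₀, rfl⟩ _ _ _)
  let xS : Over.mk (t ≫ p) ⟶ X :=
    (Over.homMk (𝟙 _) (by simp) : Over.mk (t ≫ p) ⟶ (Over.map (t ≫ p)).obj (test (𝟙 (Spec A)) (𝟙 A))) ≫
      BC.down (t ≫ p) xb
  obtain ⟨cl, hcl⟩ := (hF _ xS).2 fun T' s g => by
    let Y : Over (Spec A) := Over.mk s.left
    let q : Y ⟶ test (𝟙 (Spec A)) (𝟙 A) := Over.homMk (U := Y) s.left (by simp [Y])
    let i : T' ⟶ (Over.map (t ≫ p)).obj Y := Over.homMk (𝟙 _) (by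
      show 𝟙 _ ≫ s.left ≫ t ≫ p = T'.hom
      rw [Category.id_comp]
      exact Over.w s)
    let i' : (Over.map (t ≫ p)).obj Y ⟶ T' := Over.homMk (𝟙 _) (by
      show 𝟙 _ ≫ T'.hom = s.left ≫ t ≫ p
      rw [Category.id_comp]
      exact (Over.w s).symm)
    have hii : i ≫ i' = 𝟙 _ := Over.OverMorphism.ext (Category.id_comp _)
    have h := congrArg (BC.down (t ≫ p)) (hfix Y q (BC.up (t ≫ p) (i' ≫ g) ≫ e.hom.hom.hom))
    have he : e.hom.hom.hom ≫ e.inv.hom.hom = 𝟙 _ := congrArg (fun m => m.hom.hom) e.hom_inv_id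
    rw [down_trAct, Category.assoc, he, Category.comp_id, BC.down_up, BC.down_comp] at h
    have h2 := congrArg (i ≫ ·) h
    simp only [comp_lift_assoc, reassoc_of% hii] at h2
    have hs : i ≫ (Over.map (t ≫ p)).map q ≫ BC.down (t ≫ p) xb = s ≫ xS := by
      apply Over.OverMorphism.ext
      show 𝟙 _ ≫ s.left ≫ (BC.down (t ≫ p) xb).left = s.left ≫ 𝟙 _ ≫ (BC.down (t ≫ p) xb).left
      rw [Category.id_comp, Category.id_comp]
    rwa [hs] at h2
  refine ⟨cl, ?_, ?_⟩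
  · rw [hcl]
    exact Over.w xS
  · rw [← cancel_mono f, Category.assoc, hcl]
    show Spec.map mk ≫ 𝟙 _ ≫ (BC.down (t ≫ p) xb).left = c₀ ≫ f
    have h1 := congrArg (BC.down (t ≫ p)) hxb
    rw [BC.down_comp, BC.down_up] at h1
    rw [Category.id_comp]
    exact congrArg CommaMorphism.left h1

end Groth.Agent.Lib.MultSmooth
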