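import Groth.Agent.Lib.MultSmooth.Conj
import Groth.Agent.Lib.MultSmooth.Lifting
import Groth.Agent.H87.Charts
import Groth.Agent.Lib.FreeRes.AffGrp
import Groth.Agent.Lib.FreeRes.MultType

/-!
# Smoothness of centralisers and transporters of groups of multiplicative type
-/

set_option autoImplicit false
universe u

open CategoryTheory MonoidalCategory CartesianMonoidalCategory MonObj GrpObj AlgebraicGeometry
open CategoryTheory.Limits
open Groth.Agent.Lib.RedPts Groth.Agent.H87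

namespace Groth.Agent.Lib.MultSmooth

set_option linter.style.haveILetI false

variable {S : Scheme.{u}} {H G : Over S} [GrpObj H] [GrpObj G]

/-- `u₁` is carried to `w` by `g` over the base `t`. -/
def Carries (u₁ : H ⟶ G) {A : CommRingCat.{u}} (t : Spec A ⟶ S) {M : Type} [AddCommGroup M]
    (e : Grp.mk (Red.bc t H) ≅ Grp.mk (Red.DS (Spec A) M)) (w : Red.DS (Spec A) M ⟶ Red.bc t G)
    {X : Over S} (f : X.left ⟶ Spec A) (hf : f ≫ t = X.hom) (g : X ⟶ G) : Prop :=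
  ∀ (Y : Over (Spec A)) (s : (Over.map t).obj Y ⟶ X), s.left ≫ f = Y.hom →
    ∀ (y : Y ⟶ Red.DS (Spec A) M),
      (s ≫ g) * (BC.down t (y ≫ e.inv.hom.hom) ≫ u₁) * (s ≫ g)⁻¹ = BC.down t (y ≫ w)

/-- **Lifting of a conjugating element.** -/
theorem exists_lift_conj [IsAffineHom G.hom] [Smooth G.hom] (u₁ : H ⟶ G) [IsMonHom u₁]
    {A : CommRingCat.{u}} (J : Ideal A) (hJ : J ^ 2 = ⊥) (t : Spec A ⟶ S) {M : Type} [AddCommGroup M]
    (e : Grp.mk (Red.bc t H) ≅ Grp.mk (Red.DS (Spec A) M))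
    (w : Red.DS (Spec A) M ⟶ Red.bc t G) [IsMonHom w]
    (g₀ : Over.mk (Spec.map (CommRingCat.ofHom (Ideal.Quotient.mk J)) ≫ t) ⟶ G)
    (h₀ : Carries u₁ t e w (X := Over.mk (Spec.map (CommRingCat.ofHom (Ideal.Quotient.mk J)) ≫ t))
      (Spec.map (CommRingCat.ofHom (Ideal.Quotient.mk J))) rfl g₀) :
    ∃ g : Over.mk t ⟶ G, Spec.map (CommRingCat.ofHom (Ideal.Quotient.mk J)) ≫ g.left = g₀.left ∧
      Carries u₁ t e w (X := Over.mk t) (𝟙 _) (Category.id_comp _) g := by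
  let mk : A ⟶ CommRingCat.of (A ⧸ J) := CommRingCat.ofHom (Ideal.Quotient.mk J)
  obtain ⟨gl, hgl, hgl'⟩ := exists_lift_of_smooth G.hom J hJ t g₀.left (Over.w g₀)
  let g₁ : Over.mk t ⟶ G := Over.homMk gl hgl
  let T₁ := HomDS.test (𝟙 (Spec A)) (𝟙 A)
  let T₀ := HomDS.test (𝟙 (Spec A)) mk
  have hT₁ : T₁.hom = 𝟙 _ := by simp [T₁]
  let a : (Over.map t).obj T₁ ⟶ Over.mk t :=
    Over.homMk (𝟙 _) (by simp [T₁])
  let b : Over.mk t ⟶ (Over.map t).obj T₁ :=
    Over.homMk (𝟙 _) (by simp [T₁])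
  let G' := Red.bc t G
  haveI : IsAffine G'.left := by
    haveI : IsAffineHom G'.hom := MorphismProperty.pullback_snd (P := @IsAffineHom) _ _ inferInstance
    exact isAffine_of_isAffineHom G'.hom
  let g' : T₁ ⟶ G' := BC.up t (a ≫ g₁)
  let v₀ : Red.DS (Spec A) M ⟶ G' := e.inv.hom.hom ≫ (Over.pullback t).map u₁
  haveI hpm : IsMonHom ((Over.pullback t).map u₁) := inferInstance
  have hp : ∀ Y : Over (Spec A), ∃ p : Y ⟶ T₁, p.left = Y.hom := fun Y =>
    ⟨Over.homMk (U := Y) Y.hom (by rw [hT₁]; exact Category.comp_id _), rfl⟩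
  choose p hpl using hp
  have hpu : ∀ {Y : Over (Spec A)} (q : Y ⟶ T₁), q = p Y := fun {Y} q => by
    apply Over.OverMorphism.ext
    have := Over.w q
    rw [hT₁] at this
    rw [hpl]
    exact (Category.comp_id _).symm.trans this
  let v : Red.DS (Spec A) M ⟶ G' := (p _ ≫ g') * v₀ * (p _ ≫ g')⁻¹
  have hv : ∀ {Y : Over (Spec A)} (y : Y ⟶ Red.DS (Spec A) M),
      y ≫ v = (p Y ≫ g') * (y ≫ v₀) * (p Y ≫ g')⁻¹ := fun {Y} y => by
    simp only [v, MonObj.comp_mul, GrpObj.comp_inv, ← Category.assoc, hpu (y ≫ p _)]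
  haveI : IsMonHom v₀ := by
    have : IsMonHom e.inv.hom.hom := e.inv.hom.isMonHom_hom
    exact inferInstanceAs (IsMonHom (e.inv.hom.hom ≫ (Over.pullback t).map u₁))
  haveI : IsMonHom v := HomDS.isMonHom_of_points v fun X x y => by
    rw [hv, hv, hv, MonObj.mul_comp]
    group
  have hdown : ∀ {Y : Over (Spec A)} (y : Y ⟶ Red.DS (Spec A) M),
      BC.down t (y ≫ v₀) = BC.down t (y ≫ e.inv.hom.hom) ≫ u₁ := fun y => by
    rw [← BC.down_map, Category.assoc]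
  obtain ⟨k, hk, hconj⟩ := exists_conj J hJ v w (fun Y q y => by
    apply BC.down_injective
    rw [hv, BC.down_mul, BC.down_mul, BC.down_inv, hdown, BC.down_comp, BC.down_up]
    let s : (Over.map t).obj Y ⟶ Over.mk (Spec.map mk ≫ t) := Over.homMk q.left (by
      show q.left ≫ Spec.map mk ≫ t = Y.hom ≫ t
      rw [← Over.w q]; simp [mk])
    have hq : q.left ≫ Spec.map mk = Y.hom := by
      rw [← Over.w q]; simp [mk]
    have hs : (Over.map t).map (p Y) ≫ a ≫ g₁ = s ≫ g₀ := by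
      apply Over.OverMorphism.ext
      show (p Y).left ≫ 𝟙 _ ≫ gl = q.left ≫ g₀.left
      rw [Category.id_comp, hpl, ← hgl', ← Category.assoc, hq]
    rw [hs]
    exact h₀ Y s hq y)
  refine ⟨b ≫ BC.down t (k * g'), ?_, fun Y s hs y => ?_⟩
  · let j : Over.mk (Spec.map mk ≫ t) ⟶ (Over.map t).obj T₀ := Over.homMk (𝟙 _) (by simp [T₀])
    have hj : (Over.mk (Spec.map mk ≫ t)) = Over.mk (Spec.map mk ≫ t) := rfl
    let i₀ := th (φ := 𝟙 A) mk (Category.id_comp _)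
    have e1 : (Over.homMk (Spec.map mk) rfl : Over.mk (Spec.map mk ≫ t) ⟶ Over.mk t) ≫
        b ≫ BC.down t (k * g') = g₀ := by
      have e2 : (Over.homMk (Spec.map mk) rfl : Over.mk (Spec.map mk ≫ t) ⟶ Over.mk t) ≫ b =
          j ≫ (Over.map t).map i₀ := by
        apply Over.OverMorphism.ext
        show Spec.map mk ≫ 𝟙 _ = 𝟙 _ ≫ Spec.map mk
        simp
      rw [reassoc_of% e2, ← BC.down_comp, MonObj.comp_mul, hk, _root_.one_mul, BC.down_comp, BC.down_up]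
      apply Over.OverMorphism.ext
      show 𝟙 _ ≫ Spec.map mk ≫ 𝟙 _ ≫ gl = g₀.left
      rw [Category.id_comp, Category.id_comp, hgl']
    exact congrArg CommaMorphism.left e1
  · have hsb : s ≫ b = (Over.map t).map (p Y) := by
      apply Over.OverMorphism.ext
      show s.left ≫ 𝟙 _ = (p Y).left
      rw [hpl]
      exact hs
    have h := congrArg (BC.down t) (hconj Y (p Y) y)
    rw [hv, BC.down_mul, BC.down_mul, BC.down_mul, BC.down_mul, BC.down_inv, BC.down_inv, hdown] at h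
    rw [reassoc_of% hsb, ← BC.down_comp, MonObj.comp_mul, BC.down_mul]
    rw [← h]
    group

theorem isMonHom_transport {A : CommRingCat.{u}} (t : Spec A ⟶ S) {M : Type} [AddCommGroup M]
    (e : Grp.mk (Red.bc t H) ≅ Grp.mk (Red.DS (Spec A) M)) (u₂ : H ⟶ G) [IsMonHom u₂] :
    IsMonHom (e.inv.hom.hom ≫ (Over.pullback t).map u₂) := by
  have : IsMonHom e.inv.hom.hom := e.inv.hom.isMonHom_hom
  have : IsMonHom ((Over.pullback t).map u₂) := inferInstance
  exact inferInstanceAs (IsMonHom (e.inv.hom.hom ≫ (Over.pullback t).map u₂))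

/-- Over a base with a chart, carrying `u₁` to `u₂` is checked through the chart. -/
theorem carries_iff {A : CommRingCat.{u}} (t : Spec A ⟶ S) {M : Type} [AddCommGroup M]
    (e : Grp.mk (Red.bc t H) ≅ Grp.mk (Red.DS (Spec A) M)) (u₁ u₂ : H ⟶ G)
    {X : Over S} (f : X.left ⟶ Spec A) (hf : f ≫ t = X.hom) (g : X ⟶ G) :
    Carries u₁ t e (e.inv.hom.hom ≫ (Over.pullback t).map u₂) f hf g ↔
      ∀ (X' : Over S) (x : X' ⟶ X) (h : X' ⟶ H),
        (x ≫ g) * (h ≫ u₁) * (x ≫ g)⁻¹ = h ≫ u₂ := by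
  constructor
  · intro hc X' x h
    let Y : Over (Spec A) := Over.mk (x.left ≫ f)
    have hY : (x.left ≫ f) ≫ t = X'.hom := by rw [Category.assoc, hf, Over.w x]
    let a : (Over.map t).obj Y ⟶ X' := Over.homMk (𝟙 _) (by
      show 𝟙 _ ≫ X'.hom = (x.left ≫ f) ≫ t
      rw [hY, Category.id_comp])
    let b : X' ⟶ (Over.map t).obj Y := Over.homMk (𝟙 _) (by
      show 𝟙 _ ≫ (x.left ≫ f) ≫ t = X'.hom
      rw [hY, Category.id_comp])
    have hba : b ≫ a = 𝟙 _ := Over.OverMorphism.ext (Category.id_comp _)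
    let y : Y ⟶ Red.DS (Spec A) M := BC.up t (a ≫ h) ≫ e.hom.hom.hom
    have hy : y ≫ e.inv.hom.hom = BC.up t (a ≫ h) := by
      rw [Category.assoc]
      have : e.hom.hom.hom ≫ e.inv.hom.hom = 𝟙 _ := congr(($(e.hom_inv_id)).hom.hom)
      rw [this, Category.comp_id]
    have := hc Y (a ≫ x) (by
      show (𝟙 _ ≫ x.left) ≫ f = x.left ≫ f
      rw [Category.id_comp]) y
    rw [← Category.assoc y, BC.down_map, hy, BC.down_up] at this
    have := congrArg (b ≫ ·) this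
    simpa [MonObj.comp_mul, GrpObj.comp_inv, ← Category.assoc, hba] using this
  · intro hc Y s _ y
    rw [← Category.assoc y, BC.down_map]
    exact hc _ s _

theorem factor_η_iff {T : Over S} (z : T ⟶ G) : (∃ l : T ⟶ 𝟙_ (Over S), l ≫ η[G] = z) ↔ z = 1 := by
  rw [Hom.one_def]
  exact ⟨fun ⟨l, hl⟩ => hl ▸ by rw [toUnit_unique l (toUnit T)], fun h => ⟨toUnit T, h.symm⟩⟩

/-- **Transporter of two homomorphisms.** -/
theorem exists_transporter_smooth (hH : SGA3x.IsMultTypeFT H) [Smooth G.hom] [IsAffineHom G.hom]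
    (u₁ u₂ : H ⟶ G) [IsMonHom u₁] [IsMonHom u₂] :
    ∃ (C : Over S) (c : C ⟶ G), IsClosedImmersion c.left ∧ Smooth C.hom ∧
      ∀ (X : Over S) (g : X ⟶ G), (∃ z : X ⟶ C, z ≫ c = g) ↔
        ∀ (X' : Over S) (x : X' ⟶ X) (h : X' ⟶ H), (x ≫ g) * (h ≫ u₁) * (x ≫ g)⁻¹ = h ≫ u₂ := by
  haveI := MT.isAffineHom hH
  haveI : IsClosedImmersion η[G].left := GrpSch.isClosedImmersion_η G
  obtain ⟨C, c, hc, hC, hfp⟩ := FreeRes.exists_closed_factor (P := G) (X := H)
    (FreeRes.isEssentiallyFree_of_isMultTypeFT hH)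
    (fst G H * (snd G H ≫ u₁) * (fst G H)⁻¹ * (snd G H ≫ u₂)⁻¹) η[G]
  have hiff : ∀ (X : Over S) (g : X ⟶ G), (∃ z : X ⟶ C, z ≫ c = g) ↔
      ∀ (X' : Over S) (x : X' ⟶ X) (h : X' ⟶ H), (x ≫ g) * (h ≫ u₁) * (x ≫ g)⁻¹ = h ≫ u₂ := fun X g => by
    rw [hC g, FreeRes.forall_pair_factor_iff]
    refine forall_congr' fun X' => forall_congr' fun x => forall_congr' fun h => ?_
    rw [← mul_inv_eq_one (b := h ≫ u₂), ← factor_η_iff]
    simp only [MonObj.comp_mul, GrpObj.comp_inv, lift_fst, lift_snd_assoc]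
    exact exists_congr fun l => eq_comm
  haveI : LocallyOfFinitePresentation η[G].left :=
    AlgSpMor.Cancel.locallyOfFinitePresentation_of_comp (g := G.hom)
      (by rw [Over.w η[G]]; exact inferInstanceAs (LocallyOfFinitePresentation (𝟙 S))) inferInstance
  haveI := hfp inferInstance inferInstance
  haveI := hc
  haveI : IsAffineHom C.hom := by rw [← Over.w c]; infer_instance
  haveI : LocallyOfFinitePresentation C.hom := by rw [← Over.w c]; infer_instance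
  refine ⟨C, c, hc, ?_, hiff⟩
  obtain ⟨S', p, hp, hps, hcov, hloc⟩ := hH
  refine smooth_of_locally C.hom p hcov fun s' => ?_
  obtain ⟨U, hU, M, hM, -, ⟨e₀⟩⟩ := hloc s'
  refine ⟨U, hU, fun O hO _ A J hJ t₀ c₀ hc₀ => ?_⟩
  let t : Spec A ⟶ S := t₀ ≫ O.ι ≫ p
  have ht : t = (t₀ ≫ S'.homOfLE hO) ≫ U.ι ≫ p := by simp [t]
  let e := Tori.BaseChange.bcCongr ht H ≪≫ Charts.resChart e₀ (t₀ ≫ S'.homOfLE hO)
  haveI := isMonHom_transport t e u₂
  let g₀ : Over.mk (Spec.map (CommRingCat.ofHom (Ideal.Quotient.mk J)) ≫ t) ⟶ G :=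
    (Over.homMk c₀ hc₀ : Over.mk (Spec.map (CommRingCat.ofHom (Ideal.Quotient.mk J)) ≫ t) ⟶ C) ≫ c
  obtain ⟨g, hg, hcar⟩ := exists_lift_conj u₁ J hJ t e (e.inv.hom.hom ≫ (Over.pullback t).map u₂) g₀
    ((carries_iff t e u₁ u₂ _ rfl g₀).2 ((hiff _ g₀).1 ⟨_, rfl⟩))
  obtain ⟨z, hz⟩ := (hiff _ g).2 ((carries_iff t e u₁ u₂ _ (Category.id_comp _) g).1 hcar)
  refine ⟨z.left, Over.w z, ?_⟩
  rw [← cancel_mono c.left, Category.assoc, ← Over.comp_left, hz, hg]
  rfl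

end Groth.Agent.Lib.MultSmooth
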