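import Groth.Agent.H87.HomDS
import Mathlib.RingTheory.Ideal.Quotient.Operations
import Mathlib.Tactic.Group

/-!
# Vanishing of `H¹` of a diagonalisable group through its invariant integral

Two homomorphisms from `D(M)` to an affine group over `Spec A` which agree modulo a square-zero
ideal are conjugate by a point congruent to the unit.
-/

set_option autoImplicit false
universe u

open CategoryTheory MonoidalCategory CartesianMonoidalCategory MonObj GrpObj AlgebraicGeometry
open Groth.Agent.H87

namespace Groth.Agent.Lib.MultSmooth

set_option linter.style.haveILetI false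

section Alg

variable {A : Type u} [CommRing A] {N : Type} [CommGroup N]

/-- The invariant integral in the second variable. -/
noncomputable def integral : MonoidAlgebra A (N × N) →+ MonoidAlgebra A N where
  toFun z := MonoidAlgebra.ofCoeff (z.coeff.comapDomain (fun p : N => (p, 1))
    (fun _ _ _ _ h => congrArg Prod.fst h))
  map_zero' := by ext; simp
  map_add' z w := by ext; simp

@[simp] theorem coeff_integral (z : MonoidAlgebra A (N × N)) (p : N) :
    (integral z).coeff p = z.coeff (p, 1) := by
  simp [integral]

theorem integral_single (p q : N) (a : A) [Decidable (q = 1)] :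
    integral (MonoidAlgebra.single (p, q) a) = if q = 1 then MonoidAlgebra.single p a else 0 := by
  classical
  ext x
  rw [coeff_integral]
  split_ifs with h
  · subst h; simp [MonoidAlgebra.coeff_single, Finsupp.single_apply]
  · simp [MonoidAlgebra.coeff_single, h]

variable (A N) in
/-- The two projections and the diagonal on group algebras. -/
noncomputable def ev2 (f : N →* N × N) : MonoidAlgebra A N →+* MonoidAlgebra A (N × N) :=
  MonoidAlgebra.liftNCRingHom MonoidAlgebra.singleOneRingHom ((MonoidAlgebra.of A (N × N)).comp f)
    (fun _ _ => Commute.all _ _)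

theorem ev2_single (f : N →* N × N) (n : N) (a : A) :
    ev2 A N f (MonoidAlgebra.single n a) = MonoidAlgebra.single (f n) a := by
  rw [ev2, MonoidAlgebra.liftNCRingHom_single]
  simp [MonoidAlgebra.singleOneRingHom]

theorem integral_inl_mul (x : MonoidAlgebra A N) (z : MonoidAlgebra A (N × N)) :
    integral (ev2 A N (MonoidHom.inl N N) x * z) = x * integral z := by
  classical
  induction x using MonoidAlgebra.induction_linear with
  | zero => simp
  | add x y hx hy => simp [add_mul, hx, hy]
  | single n a =>
    induction z using MonoidAlgebra.induction_linear with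
    | zero => simp
    | add z w hz hw => simp [mul_add, hz, hw]
    | single p b =>
      obtain ⟨p, q⟩ := p
      rw [ev2_single, MonoidHom.inl_apply, MonoidAlgebra.single_mul_single, Prod.mk_mul_mk,
        _root_.one_mul, integral_single, integral_single]
      split_ifs <;> simp [MonoidAlgebra.single_mul_single]

theorem integral_one : integral (1 : MonoidAlgebra A (N × N)) = 1 := by
  classical
  rw [MonoidAlgebra.one_def, Prod.one_eq_mk, integral_single, if_pos rfl, MonoidAlgebra.one_def]

theorem integral_inr (x : MonoidAlgebra A N) :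
    integral (ev2 A N (MonoidHom.inr N N) x) = MonoidAlgebra.single 1 (x.coeff 1) := by
  classical
  induction x using MonoidAlgebra.induction_linear with
  | zero => simp
  | add x y hx hy => simp [hx, hy]
  | single n a =>
    rw [ev2_single, MonoidHom.inr_apply, integral_single]
    by_cases h : n = 1
    · subst h; simp
    · simp [h, MonoidAlgebra.coeff_single, Finsupp.single_eq_of_ne (Ne.symm h)]

theorem integral_diag (x : MonoidAlgebra A N) :
    integral (ev2 A N (MonoidHom.prod (MonoidHom.id N) (MonoidHom.id N)) x) =
      MonoidAlgebra.single 1 (x.coeff 1) := by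
  classical
  induction x using MonoidAlgebra.induction_linear with
  | zero => simp
  | add x y hx hy => simp [hx, hy]
  | single n a =>
    rw [ev2_single]
    show integral (MonoidAlgebra.single (n, n) a) = _
    rw [integral_single]
    by_cases h : n = 1
    · subst h; simp
    · simp [h, MonoidAlgebra.coeff_single, Finsupp.single_eq_of_ne (Ne.symm h)]

variable (J : Ideal A)

/-- The ideal of the group algebra generated by `J`. -/
noncomputable abbrev JB (N : Type) [CommGroup N] : Ideal (MonoidAlgebra A N) :=
  J.map (MonoidAlgebra.singleOneRingHom : A →+* MonoidAlgebra A N)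

theorem coeff_mem {x : MonoidAlgebra A N} (hx : x ∈ JB J N) (n : N) : x.coeff n ∈ J := by
  have h : JB J N ≤ RingHom.ker (MonoidAlgebra.mapRingHom N (Ideal.Quotient.mk J)) := by
    refine Ideal.map_le_iff_le_comap.mpr fun a ha => ?_
    show MonoidAlgebra.mapRingHom N (Ideal.Quotient.mk J) (MonoidAlgebra.single 1 a) = 0
    simp [Ideal.Quotient.eq_zero_iff_mem.mpr ha]
  have h2 := congrArg (fun z => z.coeff n) (RingHom.mem_ker.mp (h hx))
  simpa [Ideal.Quotient.eq_zero_iff_mem] using h2

theorem mem_JB_iff {x : MonoidAlgebra A N} : x ∈ JB J N ↔ ∀ n, x.coeff n ∈ J := by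
  refine ⟨coeff_mem J, fun h => ?_⟩
  rw [← MonoidAlgebra.sum_coeff_single x]
  refine (JB J N).sum_mem fun n _ => ?_
  have e : MonoidAlgebra.single n (x.coeff n) =
      MonoidAlgebra.single n 1 * MonoidAlgebra.singleOneRingHom (x.coeff n) := by
    simp [MonoidAlgebra.singleOneRingHom, MonoidAlgebra.single_mul_single]
  exact e ▸ (JB J N).mul_mem_left _ (Ideal.mem_map_of_mem _ (h n))

theorem integral_mem {w : MonoidAlgebra A (N × N)} (hw : w ∈ JB J (N × N)) : integral w ∈ JB J N :=
  (mem_JB_iff J).2 fun p => by rw [coeff_integral]; exact coeff_mem J hw _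

theorem mul_eq_zero_of_mem (hJ : J ^ 2 = ⊥) {x y : MonoidAlgebra A N} (hx : x ∈ JB J N)
    (hy : y ∈ JB J N) : x * y = 0 := by
  have h := Ideal.mul_mem_mul hx hy
  rw [← Ideal.map_mul, ← pow_two, hJ, Ideal.map_bot] at h
  exact h

theorem ev2_mem (f : N →* N × N) {x : MonoidAlgebra A N} (hx : x ∈ JB J N) :
    ev2 A N f x ∈ JB J (N × N) := by
  have h := Ideal.mem_map_of_mem (ev2 A N f) hx
  rw [Ideal.map_map] at h
  have e : (ev2 A N f).comp MonoidAlgebra.singleOneRingHom = MonoidAlgebra.singleOneRingHom := by
    ext a
    simp [MonoidAlgebra.singleOneRingHom, ev2_single]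
  rwa [e] at h

/-- The pairs congruent modulo `J` to an element of the first factor. -/
noncomputable def thick (N : Type) [CommGroup N] : Subring (MonoidAlgebra A (N × N)) :=
  ((ev2 A N (MonoidHom.inl N N)).range.map (Ideal.Quotient.mk (JB J (N × N)))).comap
    (Ideal.Quotient.mk (JB J (N × N)))

theorem mem_thick {z : MonoidAlgebra A (N × N)} :
    z ∈ thick J N ↔ ∃ b : MonoidAlgebra A N, z - ev2 A N (MonoidHom.inl N N) b ∈ JB J (N × N) := by
  simp only [thick, Subring.mem_comap, Subring.mem_map, RingHom.mem_range,
    exists_exists_eq_and, ← Ideal.Quotient.eq]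
  exact exists_congr fun b => eq_comm

theorem integral_mul (hJ : J ^ 2 = ⊥) {z z' : MonoidAlgebra A (N × N)} (hz : z ∈ thick J N)
    (hz' : z' ∈ thick J N) : integral (z * z') = integral z * integral z' := by
  obtain ⟨b, hb⟩ := (mem_thick J).1 hz
  obtain ⟨b', hb'⟩ := (mem_thick J).1 hz'
  set e := ev2 A N (MonoidHom.inl N N) with he
  set j := z - e b
  set j' := z' - e b'
  have hjj : integral j * integral j' = 0 :=
    mul_eq_zero_of_mem J hJ (integral_mem J hb) (integral_mem J hb')
  have ez : z = e b + j := by simp [j]
  have ez' : z' = e b' + j' := by simp [j']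
  rw [ez, ez', show (e b + j) * (e b' + j') = e (b * b') + e b * j' + e b' * j + j * j' by
    rw [map_mul]; ring, mul_eq_zero_of_mem J hJ hb hb', add_zero]
  simp only [map_add, he, integral_inl_mul]
  have h1 : ∀ x, integral (ev2 A N (MonoidHom.inl N N) x) = x := fun x => by
    simpa [integral_one] using integral_inl_mul x (1 : MonoidAlgebra A (N × N))
  rw [h1, h1, h1]
  linear_combination -hjj

end Alg

end Groth.Agent.Lib.MultSmooth
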