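import Groth.Agent.Lib.MultSmooth.Subgroup

/-!
# Smoothness of transporters and normalisers of subgroups of multiplicative type
-/

set_option autoImplicit false
universe u

open CategoryTheory MonoidalCategory CartesianMonoidalCategory MonObj GrpObj AlgebraicGeometry
open CategoryTheory.Limits
open Groth.Agent.Lib.RedPts Groth.Agent.H87

namespace Groth.Agent.Lib.MultSmooth

set_option linter.style.haveILetI false

variable {S : Scheme.{u}} {H₁ H₂ G : Over S} [GrpObj H₁] [GrpObj H₂] [GrpObj G]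

/-- Common charts over every affine open inside a chart. -/
theorem charts_res {S' : Scheme.{u}} {p : S' ⟶ S} {U O : S'.Opens} (hle : O ≤ U) {A : CommRingCat.{u}}
    (t₀ : Spec A ⟶ (O : Scheme.{u})) {H : Over S} [GrpObj H] {M : Type} [AddCommGroup M]
    (e₀ : Grp.mk (Red.bc (U.ι ≫ p) H) ≅ Grp.mk (Red.DS (U : Scheme.{u}) M)) :
    Nonempty (Grp.mk (Red.bc (t₀ ≫ O.ι ≫ p) H) ≅ Grp.mk (Red.DS (Spec A) M)) :=
  ⟨Tori.BaseChange.bcCongr (show t₀ ≫ O.ι ≫ p = (t₀ ≫ S'.homOfLE hle) ≫ U.ι ≫ p by simp) H ≪≫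
    Charts.resChart e₀ (t₀ ≫ S'.homOfLE hle)⟩

theorem lfp_of_mono_multType (hH₂ : SGA3x.IsMultTypeFT H₂) [LocallyOfFiniteType G.hom] (i₂ : H₂ ⟶ G) :
    LocallyOfFinitePresentation i₂.left :=
  AlgSpMor.Cancel.locallyOfFinitePresentation_of_comp (g := G.hom)
    (by rw [Over.w i₂]; exact MT.locallyOfFinitePresentation hH₂) inferInstance

/-- The closed subscheme of the transporter (containment). -/
theorem exists_fwd_closed (hH₁ : SGA3x.IsMultTypeFT H₁) (hH₂ : SGA3x.IsMultTypeFT H₂) [Smooth G.hom]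
    [IsAffineHom G.hom] (i₁ : H₁ ⟶ G) (i₂ : H₂ ⟶ G) [IsMonHom i₂] [Mono i₂] :
    ∃ (C : Over S) (c : C ⟶ G), IsClosedImmersion c.left ∧ LocallyOfFinitePresentation c.left ∧
      ∀ {X : Over S} (g : X ⟶ G), (∃ z : X ⟶ C, z ≫ c = g) ↔ Fwd i₁ i₂ g := by
  haveI := MT.isAffineHom hH₁
  haveI := isClosedImmersion_of_isMultTypeFT hH₂ i₂
  obtain ⟨C, c, hc, hC, hfp⟩ := FreeRes.exists_transporter i₂ i₁
    (FreeRes.isEssentiallyFree_of_isMultTypeFT hH₁)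
  exact ⟨C, c, hc, hfp inferInstance (lfp_of_mono_multType hH₂ i₂), fun g => hC g⟩

/-- **The transporter (containment) is smooth.** -/
theorem exists_fwd_smooth (hH₁ : SGA3x.IsMultTypeFT H₁) (hH₂ : SGA3x.IsMultTypeFT H₂) [Smooth G.hom]
    [IsAffineHom G.hom] (i₁ : H₁ ⟶ G) [IsMonHom i₁] (i₂ : H₂ ⟶ G) [IsMonHom i₂] [Mono i₂] :
    ∃ (C : Over S) (c : C ⟶ G), IsClosedImmersion c.left ∧ Smooth C.hom ∧
      ∀ (X : Over S) (g : X ⟶ G), (∃ z : X ⟶ C, z ≫ c = g) ↔ Fwd i₁ i₂ g := by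
  obtain ⟨C, c, hc, hfp, hC⟩ := exists_fwd_closed hH₁ hH₂ i₁ i₂
  haveI := hc
  haveI := hfp
  haveI : IsAffineHom C.hom := by rw [← Over.w c]; infer_instance
  haveI : LocallyOfFinitePresentation C.hom := by rw [← Over.w c]; infer_instance
  refine ⟨C, c, hc, ?_, fun X g => hC g⟩
  obtain ⟨S', p, hp, hps, hcov, hloc⟩ := Charts.exists_common_charts hH₁ hH₂
  refine smooth_of_locally C.hom p hcov fun s' => ?_
  obtain ⟨U, hU, M, M', iM, iM', -, -, ⟨f₁⟩, ⟨f₂⟩⟩ := hloc s'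
  refine ⟨U, hU, fun O hO _ A J hJ t₀ c₀ hc₀ => ?_⟩
  obtain ⟨e₁⟩ := charts_res hO t₀ f₁
  obtain ⟨e₂⟩ := charts_res hO t₀ f₂
  let g₀ : Over.mk (Spec.map (CommRingCat.ofHom (Ideal.Quotient.mk J)) ≫ t₀ ≫ O.ι ≫ p) ⟶ G :=
    (Over.homMk c₀ hc₀ : Over.mk (Spec.map (CommRingCat.ofHom (Ideal.Quotient.mk J)) ≫ t₀ ≫ O.ι ≫ p) ⟶ C) ≫ c
  obtain ⟨g, ψ, -, hg, -, -, hfwd⟩ := exists_lift_fwd i₁ i₂ J (t₀ ≫ O.ι ≫ p) e₁ e₂ hJ g₀ ((hC g₀).1 ⟨_, rfl⟩)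
  obtain ⟨z, hz⟩ := (hC g).2 hfwd
  refine ⟨z.left, Over.w z, ?_⟩
  rw [← cancel_mono c.left, Category.assoc, ← Over.comp_left, hz, hg]
  rfl

/-- **The strict transporter is smooth.** -/
theorem exists_strict_smooth (hH₁ : SGA3x.IsMultTypeFT H₁) (hH₂ : SGA3x.IsMultTypeFT H₂) [Smooth G.hom]
    [IsAffineHom G.hom] (i₁ : H₁ ⟶ G) [IsMonHom i₁] [Mono i₁] (i₂ : H₂ ⟶ G) [IsMonHom i₂] [Mono i₂] :
    ∃ (C : Over S) (c : C ⟶ G), IsClosedImmersion c.left ∧ Smooth C.hom ∧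
      ∀ (X : Over S) (g : X ⟶ G), (∃ z : X ⟶ C, z ≫ c = g) ↔ Fwd i₁ i₂ g ∧ Fwd i₂ i₁ g⁻¹ := by
  obtain ⟨C₁, c₁, hc₁, hfp₁, hC₁⟩ := exists_fwd_closed hH₁ hH₂ i₁ i₂
  obtain ⟨C₂, c₂, hc₂, hfp₂, hC₂⟩ := exists_fwd_closed hH₂ hH₁ i₂ i₁
  let ν : G ⟶ G := (𝟙 G)⁻¹
  have hν : ∀ {X : Over S} (g : X ⟶ G), g ≫ ν = g⁻¹ := fun g => by
    simp [ν, GrpObj.comp_inv]
  haveI : IsIso ν := ⟨ν, by rw [hν]; exact _root_.inv_inv _, by rw [hν]; exact _root_.inv_inv _⟩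
  haveI : IsIso ν.left := inferInstanceAs (IsIso ((Over.forget S).map ν))
  let c₂' : C₂ ⟶ G := c₂ ≫ ν
  have hC₂' : ∀ {X : Over S} (g : X ⟶ G), (∃ z : X ⟶ C₂, z ≫ c₂' = g) ↔ Fwd i₂ i₁ g⁻¹ := fun {X} g => by
    rw [← hC₂ g⁻¹]
    refine exists_congr fun z => ?_
    simp only [c₂', hν, GrpObj.comp_inv]
    exact inv_eq_iff_eq_inv
  haveI := hc₁
  haveI := hc₂
  haveI := hfp₁
  haveI := hfp₂
  haveI : IsClosedImmersion c₂'.left := inferInstanceAs (IsClosedImmersion (c₂.left ≫ ν.left))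
  haveI : LocallyOfFinitePresentation c₂'.left :=
    inferInstanceAs (LocallyOfFinitePresentation (c₂.left ≫ ν.left))
  let C : Over S := Over.mk ((pullback.fst c₁.left c₂'.left ≫ c₁.left) ≫ G.hom)
  let c : C ⟶ G := Over.homMk (pullback.fst c₁.left c₂'.left ≫ c₁.left)
  haveI : IsClosedImmersion c.left :=
    inferInstanceAs (IsClosedImmersion (pullback.fst c₁.left c₂'.left ≫ c₁.left))
  haveI : LocallyOfFinitePresentation c.left :=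
    inferInstanceAs (LocallyOfFinitePresentation (pullback.fst c₁.left c₂'.left ≫ c₁.left))
  have hC : ∀ {X : Over S} (g : X ⟶ G), (∃ z, z ≫ c = g) ↔ Fwd i₁ i₂ g ∧ Fwd i₂ i₁ g⁻¹ := fun {X} g => by
    rw [← hC₁ g, ← hC₂' g]
    constructor
    · rintro ⟨z, rfl⟩
      refine ⟨⟨z ≫ Over.homMk (pullback.fst c₁.left c₂'.left) ?_, ?_⟩,
        ⟨z ≫ Over.homMk (pullback.snd c₁.left c₂'.left) ?_, ?_⟩⟩
      · show _ ≫ C₁.hom = (_ ≫ c₁.left) ≫ G.hom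
        rw [Category.assoc, Over.w c₁]
      · rw [Category.assoc]; congr 1
      · show _ ≫ C₂.hom = (_ ≫ c₁.left) ≫ G.hom
        rw [pullback.condition, Category.assoc, Over.w c₂']
      · rw [Category.assoc]; congr 1
        exact Over.OverMorphism.ext pullback.condition.symm
    · rintro ⟨⟨z₁, h₁⟩, ⟨z₂, h₂⟩⟩
      have e : z₁.left ≫ c₁.left = z₂.left ≫ c₂'.left := by
        rw [← Over.comp_left, ← Over.comp_left, h₁, h₂]
      have e1 : pullback.lift z₁.left z₂.left e ≫ c.left = g.left := by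
        show pullback.lift z₁.left z₂.left e ≫ pullback.fst c₁.left c₂'.left ≫ c₁.left = _
        rw [pullback.lift_fst_assoc, ← Over.comp_left, h₁]
      exact ⟨Over.homMk (pullback.lift z₁.left z₂.left e)
        (by rw [← Over.w c, reassoc_of% e1, Over.w g]), Over.OverMorphism.ext e1⟩
  haveI : IsAffineHom C.hom := by rw [← Over.w c]; infer_instance
  haveI : LocallyOfFinitePresentation C.hom := by rw [← Over.w c]; infer_instance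
  refine ⟨C, c, inferInstance, ?_, fun X g => hC g⟩
  obtain ⟨S', p, hp, hps, hcov, hloc⟩ := Charts.exists_common_charts hH₁ hH₂
  refine smooth_of_locally C.hom p hcov fun s' => ?_
  obtain ⟨U, hU, M, M', iM, iM', -, -, ⟨f₁⟩, ⟨f₂⟩⟩ := hloc s'
  refine ⟨U, hU, fun O hO _ A J hJ t₀ c₀ hc₀ => ?_⟩
  obtain ⟨e₁⟩ := charts_res hO t₀ f₁
  obtain ⟨e₂⟩ := charts_res hO t₀ f₂
  let t := t₀ ≫ O.ι ≫ p
  let g₀ : Over.mk (Spec.map (CommRingCat.ofHom (Ideal.Quotient.mk J)) ≫ t) ⟶ G :=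
    (Over.homMk c₀ hc₀ : Over.mk (Spec.map (CommRingCat.ofHom (Ideal.Quotient.mk J)) ≫ t) ⟶ C) ≫ c
  obtain ⟨h₀, h₀'⟩ := (hC g₀).1 ⟨_, rfl⟩
  obtain ⟨g, ψ, hψm, hg, hcar, hψ, hfwd⟩ := exists_lift_fwd i₁ i₂ J t e₁ e₂ hJ g₀ h₀
  obtain ⟨χ, hχm, hχ⟩ := exists_hom_of_fwd i₂ i₁ J t e₂ e₁ hJ g₀⁻¹ h₀'
  haveI := hψm
  haveI := hχm
  have inj : ∀ {Y : Over (Spec A)} {z z' : Y ⟶ Red.DS (Spec A) M'},
      tr t e₂ i₂ z = tr t e₂ i₂ z' → z = z' := fun {Y z z'} h => by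
    haveI : IsIso e₂.inv.hom.hom := Tori.BaseChange.isIso_hom e₂.symm
    exact (cancel_mono _).1 (BC.down_injective ((cancel_mono i₂).1 h))
  have hid : χ ≫ ψ = 𝟙 _ := hom_eq_of_eq J hJ _ _ fun Y q y => inj (by
    let s : (Over.map t).obj Y ⟶ Over.mk (Spec.map (CommRingCat.ofHom (Ideal.Quotient.mk J)) ≫ t) :=
      Over.homMk q.left (by
        show q.left ≫ Spec.map _ ≫ t = Y.hom ≫ t
        rw [← Over.w q]; simp)
    have hs : s.left ≫ Spec.map (CommRingCat.ofHom (Ideal.Quotient.mk J)) = Y.hom := by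
      rw [← Over.w q]; simp [s]
    rw [Category.comp_id, ← Category.assoc, ← hψ Y s hs, ← hχ Y s hs, GrpObj.comp_inv]
    group)
  have hback : Fwd i₂ i₁ g⁻¹ := fun X' x h => by
    obtain ⟨Y, a, b, hba, hy⟩ := fwd_of_carries i₁ i₂ t e₁ e₂ g ψ hcar X' x
    have h1 : e₂.hom.hom.hom ≫ e₂.inv.hom.hom = 𝟙 _ := congr(($(e₂.hom_inv_id)).hom.hom)
    have h2 := hy ((BC.up t (a ≫ h) ≫ e₂.hom.hom.hom) ≫ χ)
    rw [Category.assoc _ χ ψ, hid, Category.comp_id] at h2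
    rw [tr, tr, Category.assoc (BC.up t (a ≫ h)) e₂.hom.hom.hom e₂.inv.hom.hom, h1, Category.comp_id,
      BC.down_up, ← Category.assoc b (a ≫ h), ← Category.assoc b a h, hba, Category.id_comp,
      ← Category.assoc b] at h2
    refine ⟨b ≫ BC.down t (((BC.up t (a ≫ h) ≫ e₂.hom.hom.hom) ≫ χ) ≫ e₁.inv.hom.hom), ?_⟩
    rw [GrpObj.comp_inv, _root_.inv_inv, ← h2]
    group
  obtain ⟨z, hz⟩ := (hC g).2 ⟨hfwd, hback⟩
  refine ⟨z.left, Over.w z, ?_⟩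
  rw [← cancel_mono c.left, Category.assoc, ← Over.comp_left, hz, hg]
  rfl

end Groth.Agent.Lib.MultSmooth
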